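/-
Coordinates in a group generated by root subgroups which commute modulo a central list of root subgroups,
and the effect of conjugation by products of root elements in a parameter and its conjugate.
-/
import Cfsg.Agent.Lib.ChevInvol.Step

set_option autoImplicit false

namespace Cfsg.Agent.TwistInvol

open Cfsg.Lie Cfsg.Agent.Chev Cfsg.Agent.ChevInvol

variable (c : Cert)

/-- commutator roots outside the central list -/
noncomputable def nxtM (Zc : List ℕ) (r s : ℕ) : List ℕ := (nxt c r s).filter fun k => !(memB k Zc)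

/-- the exponents after one more factor with parameter `φ^s t` -/
def bump (s : Bool) (i j : ℕ) : ℕ × ℕ := cond s (i, j + 1) (i + 1, j)

/-- roots with monomials in the conjugate of a root element, modulo the central list -/
noncomputable def cl2 (Zc : List ℕ) : List (ℕ × Bool) → ℕ → List (ℕ × ℕ × ℕ)
  | [], b => [(b, 0, 0)]
  | e :: E, b => (cl2 Zc E b).flatMap fun x =>
      x :: (nxtM c Zc e.1 x.1).map fun k => (k, bump e.2 x.2.1 x.2.2)

/-- admissible steps staying in `Q` -/
noncomputable def cl2OK (Q Zc : List ℕ) : List (ℕ × Bool) → ℕ → Bool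
  | [], b => memB b Q
  | e :: E, b => cl2OK Q Zc E b && allL (fun z => commB c e.1 z) Zc &&
      allL (fun x : ℕ × ℕ × ℕ => adjOK c e.1 x.1 && allL (fun k => memB k Q || memB k Zc) (nxt c e.1 x.1))
        (cl2 c Zc E b)

/-- all contributions: source, target, monomial -/
noncomputable def contrib2 (Zc : List ℕ) (E : List (ℕ × Bool)) (Q : List ℕ) : List (ℕ × ℕ × ℕ × ℕ) :=
  Q.flatMap fun b => (cl2 c Zc E b).map fun x => (b, x)

/-- `Q` commutes modulo the central list -/
noncomputable def abelB (Q Zc : List ℕ) : Bool :=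
  allL (fun a => allL (fun b => adjOK c a b && allL (fun k => memB k Zc) (nxt c a b)) Q) Q &&
  allL (fun z => allL (fun b => commB c z b) (Q ++ Zc)) Zc

variable {c} {F : Type*} [Field F] {D : ChevalleyDatum}

/-- equal up to a central factor -/
def Eqv (D : ChevalleyDatum) (F : Type*) [Field F] (Zc : List ℕ) (g h : GL D.Idx F) : Prop :=
  ∃ z ∈ Hgrp D F Zc, g = h * z

/-- the element of a list of roots with parameters in a field element and its conjugate -/
noncomputable def elS (D : ChevalleyDatum) (φ : F ≃+* F) (E : List (ℕ × Bool)) (t : F) : GL D.Idx F :=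
  (E.map fun e => xg D F e.1 (cond e.2 (φ t) t)).prod

/-- the value of a monomial -/
def monT (φ : F ≃+* F) (t : F) (i j : ℕ) : F := t ^ i * φ t ^ j

theorem monT_bump (φ : F ≃+* F) (t : F) (s : Bool) (i j : ℕ) :
    monT φ t (bump s i j).1 (bump s i j).2 = cond s (φ t) t * monT φ t i j := by
  cases s <;> simp [monT, bump, pow_succ] <;> ring

theorem central_zg {Zc : List ℕ} {g : GL D.Idx F} (h : ∀ z ∈ Zc, ∀ u : F, Commute g (xg D F z u))
    {y : GL D.Idx F} (hy : y ∈ Hgrp D F Zc) : Commute g y := by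
  induction hy using Subgroup.closure_induction with
  | mem x hx => obtain ⟨z, hz, u, rfl⟩ := hx; exact h z hz u
  | one => exact Commute.one_right g
  | mul x y _ _ hx hy => exact hx.mul_right hy
  | inv x _ hx => exact hx.inv_right

section

variable (hV : Valid D c) [CharP F 2]
include hV

theorem comm_central {Zc : List ℕ} {r : ℕ} (hr : r < D.nroots) (hZ : ∀ z ∈ Zc, z < D.nroots)
    (h : ∀ z ∈ Zc, commB c r z = true) (t : F) {y : GL D.Idx F} (hy : y ∈ Hgrp D F Zc) :
    Commute (xg D F r t) y :=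
  central_zg (fun z hz u => commute_of_commB hV hr (hZ z hz) (h z hz) t u) hy

section coords

variable {Q Zc : List ℕ} (hQ : ∀ b ∈ Q, b < D.nroots) (hZ : ∀ b ∈ Zc, b < D.nroots)
  (hA : abelB c Q Zc = true)
include hQ hZ hA

theorem abelB_cen {a : ℕ} (ha : a ∈ Q ++ Zc) (t : F) {y : GL D.Idx F} (hy : y ∈ Hgrp D F Zc) :
    Commute (xg D F a t) y := by
  simp only [abelB, Bool.and_eq_true, allL_iff] at hA
  refine central_zg (fun z hz u => ?_) hy
  have ha' : a < D.nroots := (List.mem_append.1 ha).elim (hQ a) (hZ a)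
  exact (commute_of_commB hV (hZ z hz) ha' (hA.2 z hz a ha) u t).symm

theorem qel_cen {L : List ℕ} (hL : ∀ a ∈ L, a ∈ Q ++ Zc) (v : ℕ → F) {y : GL D.Idx F}
    (hy : y ∈ Hgrp D F Zc) : Commute (qel D L v) y :=
  Commute.list_prod_left _ _ fun x hx => by
    obtain ⟨a, ha, rfl⟩ := List.mem_map.1 hx
    exact abelB_cen hV hQ hZ hA (hL a ha) _ hy

theorem swap_mod {a b : ℕ} (ha : a ∈ Q) (hb : b ∈ Q) (t u : F) :
    ∃ z ∈ Hgrp D F Zc, xg D F a t * xg D F b u = xg D F b u * xg D F a t * z := by
  have hA' := hA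
  simp only [abelB, Bool.and_eq_true, allL_iff, memB_iff] at hA'
  obtain ⟨h1, h2⟩ := hA'.1 a ha b hb
  have hz : ((nxt c a b).map fun k => xg D F k (t * u)).prod ∈ Hgrp D F Zc :=
    Subgroup.list_prod_mem _ fun x hx => by
      obtain ⟨k, hk, rfl⟩ := List.mem_map.1 hx
      exact xg_mem_Hgrp (h2 k hk) _
  refine ⟨_, hz, ?_⟩
  have e := xg_conj hV (hQ a ha) (hQ b hb) h1 t u
  have hc := (abelB_cen hV hQ hZ hA (List.mem_append_left Zc ha) t hz).eq
  calc xg D F a t * xg D F b u = xg D F a t * xg D F b u * (xg D F a t * xg D F a t) := by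
        rw [xg_sq hV, mul_one]
    _ = (xg D F a t * xg D F b u * xg D F a t) * xg D F a t := by group
    _ = _ := by rw [e, mul_assoc, ← hc, ← mul_assoc]

theorem swap_list {a : ℕ} (ha : a ∈ Q) (t : F) (v : ℕ → F) : ∀ L : List ℕ, (∀ b ∈ L, b ∈ Q) →
    ∃ z ∈ Hgrp D F Zc, qel D L v * xg D F a t = xg D F a t * qel D L v * z := by
  intro L
  induction L with
  | nil => intro _; exact ⟨1, one_mem _, by simp [qel]⟩
  | cons b L ih =>
    intro hL
    obtain ⟨z, hz, e⟩ := ih fun x hx => hL x (List.mem_cons_of_mem _ hx)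
    obtain ⟨z', hz', e'⟩ := swap_mod hV hQ hZ hA (hL b List.mem_cons_self) ha (v b) t
    refine ⟨z' * z, mul_mem hz' hz, ?_⟩
    have e0 : qel D (b :: L) v = xg D F b (v b) * qel D L v := by simp [qel]
    have hc : Commute (qel D L v) z' :=
      qel_cen hV hQ hZ hA (fun x hx => List.mem_append_left _ (hL x (List.mem_cons_of_mem _ hx))) v hz'
    calc qel D (b :: L) v * xg D F a t = xg D F b (v b) * (qel D L v * xg D F a t) := by
          rw [e0, mul_assoc]
      _ = (xg D F b (v b) * xg D F a t) * (qel D L v * z) := by rw [e]; group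
      _ = xg D F a t * xg D F b (v b) * (z' * qel D L v) * z := by rw [e']; group
      _ = _ := by rw [← hc.eq, e0]; group

theorem qel_add_aux (v w : ℕ → F) : ∀ L : List ℕ, (∀ b ∈ L, b ∈ Q) →
    Eqv D F Zc (qel D L v * qel D L w) (qel D L fun j => v j + w j) := by
  intro L
  induction L with
  | nil => intro _; exact ⟨1, one_mem _, by simp [qel]⟩
  | cons a L ih =>
    intro hL
    have hL' : ∀ b ∈ L, b ∈ Q := fun b hb => hL b (List.mem_cons_of_mem _ hb)
    obtain ⟨z, hz, e⟩ := ih hL'
    obtain ⟨z', hz', e'⟩ := swap_list hV hQ hZ hA (hL a List.mem_cons_self) (w a) v L hL'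
    refine ⟨z * z', mul_mem hz hz', ?_⟩
    have e0 : ∀ y : ℕ → F, qel D (a :: L) y = xg D F a (y a) * qel D L y := fun y => by simp [qel]
    have hc : Commute (qel D L w) z' :=
      qel_cen hV hQ hZ hA (fun x hx => List.mem_append_left _ (hL' x hx)) w hz'
    calc qel D (a :: L) v * qel D (a :: L) w
        = xg D F a (v a) * (qel D L v * xg D F a (w a)) * qel D L w := by rw [e0, e0]; group
      _ = (xg D F a (v a) * xg D F a (w a)) * qel D L v * (z' * qel D L w) := by rw [e']; group
      _ = xg D F a (v a + w a) * (qel D L v * qel D L w) * z' := by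
          rw [← hc.eq, (good' hV).xg_add]; group
      _ = _ := by rw [e, e0]; group

theorem qel_add (v w : ℕ → F) : Eqv D F Zc (qel D Q v * qel D Q w) (qel D Q fun j => v j + w j) :=
  qel_add_aux hV hQ hZ hA v w Q fun _ h => h

omit hQ hZ hA in
theorem qel_zero (L : List ℕ) : qel D L (fun _ => (0 : F)) = 1 :=
  List.prod_eq_one fun x hx => by
    obtain ⟨b, -, rfl⟩ := List.mem_map.1 hx
    exact (good' hV).xg_zero b

omit hQ hZ hA in
theorem qel_congr_zero {L : List ℕ} {v : ℕ → F} (h : ∀ j ∈ L, v j = 0) : qel D L v = 1 :=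
  List.prod_eq_one fun x hx => by
    obtain ⟨b, hb, rfl⟩ := List.mem_map.1 hx
    rw [h b hb]; exact (good' hV).xg_zero b

omit hQ hZ hA in
theorem qel_single : ∀ {L : List ℕ}, L.Nodup → ∀ {k : ℕ}, k ∈ L → ∀ u : F,
    qel D L (fun j => if j = k then u else 0) = xg D F k u := by
  intro L
  induction L with
  | nil => intro _ k hk; simp at hk
  | cons a L ih =>
    intro hn k hk u
    rw [List.nodup_cons] at hn
    have e : ∀ z : ℕ → F, qel D (a :: L) z = xg D F a (z a) * qel D L z := fun z => by simp [qel]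
    rw [e]
    rcases List.mem_cons.1 hk with rfl | hk
    · rw [if_pos rfl, qel_congr_zero hV fun j hj => if_neg fun h : j = k => hn.1 (h ▸ hj), mul_one]
    · rw [if_neg fun h : a = k => hn.1 (h ▸ hk), (good' hV).xg_zero, one_mul, ih hn.2 hk u]

theorem prod_eqv_qel (hN : Q.Nodup) {α : Type*} : ∀ (L : List α) (k : α → ℕ) (u : α → F),
    (∀ x ∈ L, k x ∈ Q) →
    Eqv D F Zc (L.map fun x => xg D F (k x) (u x)).prod
      (qel D Q fun j => (L.map fun x => if j = k x then u x else 0).sum) := by
  intro L k u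
  induction L with
  | nil => intro _; exact ⟨1, one_mem _, by simp [qel_zero hV]⟩
  | cons x L ih =>
    intro h
    obtain ⟨z, hz, e⟩ := ih fun y hy => h y (List.mem_cons_of_mem _ hy)
    obtain ⟨z', hz', e'⟩ := qel_add hV hQ hZ hA (fun j => if j = k x then u x else 0)
      (fun j => (L.map fun x => if j = k x then u x else 0).sum)
    refine ⟨z' * z, mul_mem hz' hz, ?_⟩
    rw [List.map_cons, List.prod_cons, e, ← qel_single hV hN (h x List.mem_cons_self) (u x), ← mul_assoc, e']
    simp only [List.map_cons, List.sum_cons, mul_assoc]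

theorem cl2OK_mem : ∀ {E : List (ℕ × Bool)} {b : ℕ}, cl2OK c Q Zc E b = true → ∀ x ∈ cl2 c Zc E b, x.1 ∈ Q := by
  intro E
  induction E with
  | nil => intro b h x hx; simp only [cl2, List.mem_singleton] at hx; subst hx; exact memB_iff.1 h
  | cons e E ih =>
    intro b h x hx
    simp only [cl2OK, Bool.and_eq_true, allL_iff, Bool.or_eq_true, memB_iff] at h
    simp only [cl2, List.mem_flatMap, List.mem_cons, List.mem_map] at hx
    obtain ⟨y, hy, rfl | ⟨k, hk, rfl⟩⟩ := hx
    · exact ih h.1.1 _ hy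
    · obtain ⟨hk1, hk2⟩ := List.mem_filter.1 hk
      simp only [Bool.not_eq_true'] at hk2
      refine ((h.2 y hy).2 k hk1).resolve_right fun hh => ?_
      rw [memB_iff.2 hh] at hk2
      exact absurd hk2 (by simp)

theorem prod_filter_zc {L : List ℕ} (hL : ∀ k ∈ L, k ∈ Q ∨ k ∈ Zc) (u : F) :
    Eqv D F Zc (L.map fun k => xg D F k u).prod ((L.filter fun k => !(memB k Zc)).map fun k => xg D F k u).prod := by
  induction L with
  | nil => exact ⟨1, one_mem _, by simp⟩
  | cons k L ih =>
    obtain ⟨z, hz, e⟩ := ih fun x hx => hL x (List.mem_cons_of_mem _ hx)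
    cases hk : memB k Zc with
    | false => exact ⟨z, hz, by simp [hk, e, mul_assoc]⟩
    | true =>
      have hkz := xg_mem_Hgrp (D := D) (memB_iff.1 hk) u
      refine ⟨z * xg D F k u, mul_mem hz hkz, ?_⟩
      have hc : Commute (((L.filter fun k => !(memB k Zc)).map fun k => xg D F k u).prod) (xg D F k u) :=
        Commute.list_prod_left _ _ fun y hy => by
          obtain ⟨x, hx, rfl⟩ := List.mem_map.1 hy
          exact abelB_cen hV hQ hZ hA (List.mem_append.2 (hL x (List.mem_cons_of_mem _ (List.mem_filter.1 hx).1))) u hkz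
      have hcz : Commute (xg D F k u) z := abelB_cen hV hQ hZ hA (List.mem_append_right _ (memB_iff.1 hk)) u hz
      simp only [List.map_cons, List.prod_cons, List.filter_cons, hk, Bool.not_true, Bool.false_eq_true, if_false]
      rw [e, ← mul_assoc, ← hc.eq, mul_assoc, hcz.eq]

theorem conj_xg2 (φ : F ≃+* F) : ∀ {E : List (ℕ × Bool)}, (∀ e ∈ E, e.1 < D.nroots) →
    ∀ {b : ℕ}, cl2OK c Q Zc E b = true → ∀ t u : F,
    Eqv D F Zc (elS D φ E t * xg D F b u * (elS D φ E t)⁻¹)
      ((cl2 c Zc E b).map fun x => xg D F x.1 (u * monT φ t x.2.1 x.2.2)).prod := by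
  intro E
  induction E with
  | nil => intro _ b _ t u; exact ⟨1, one_mem _, by simp [elS, cl2, monT]⟩
  | cons e E ih =>
    intro hE b h t u
    have hh := h
    simp only [cl2OK, Bool.and_eq_true, allL_iff, Bool.or_eq_true, memB_iff] at h
    obtain ⟨⟨h1, hcen⟩, h2⟩ := h
    have hr := hE e List.mem_cons_self
    set τ : F := cond e.2 (φ t) t with hτ
    obtain ⟨z, hz, ez⟩ := ih (fun a ha => hE a (List.mem_cons_of_mem _ ha)) h1 t u
    have e1 : elS D φ (e :: E) t = xg D F e.1 τ * elS D φ E t := by simp [elS, hτ]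
    have hcz : Commute (xg D F e.1 τ) z := comm_central hV hr hZ hcen τ hz
    have key : Eqv D F Zc
        (xg D F e.1 τ * ((cl2 c Zc E b).map fun x => xg D F x.1 (u * monT φ t x.2.1 x.2.2)).prod * xg D F e.1 τ)
        ((cl2 c Zc (e :: E) b).map fun x => xg D F x.1 (u * monT φ t x.2.1 x.2.2)).prod := by
      have hmem := cl2OK_mem hV hQ hZ hA h1
      show Eqv D F Zc _ (((cl2 c Zc E b).flatMap fun x =>
        x :: (nxtM c Zc e.1 x.1).map fun k => (k, bump e.2 x.2.1 x.2.2)).map _).prod
      generalize cl2 c Zc E b = L at h2 hmem ⊢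
      clear e1 ez hh
      induction L with
      | nil => exact ⟨1, one_mem _, by simp [xg_sq hV]⟩
      | cons x L ihL =>
        have hx := hmem x List.mem_cons_self
        obtain ⟨hadj, hk⟩ := h2 x List.mem_cons_self
        obtain ⟨z₂, hz₂, eL⟩ := ihL (fun y hy => h2 y (List.mem_cons_of_mem _ hy))
          (fun y hy => hmem y (List.mem_cons_of_mem _ hy))
        obtain ⟨z₁, hz₁, eN⟩ := prod_filter_zc hV hQ hZ hA (L := nxt c e.1 x.1) hk (τ * (u * monT φ t x.2.1 x.2.2))
        have hc := xg_conj hV hr (hQ _ hx) hadj τ (u * monT φ t x.2.1 x.2.2)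
        set P := ((L.flatMap fun x => x :: (nxtM c Zc e.1 x.1).map fun k => (k, bump e.2 x.2.1 x.2.2)).map
          fun x => xg D F x.1 (u * monT φ t x.2.1 x.2.2)).prod with hP
        have hzP : Commute P z₁ := Commute.list_prod_left _ _ fun y hy => by
          obtain ⟨w, hw, rfl⟩ := List.mem_map.1 hy
          obtain ⟨x', hx', hw⟩ := List.mem_flatMap.1 hw
          refine abelB_cen hV hQ hZ hA (List.mem_append_left _ ?_) _ hz₁
          simp only [List.mem_cons, List.mem_map] at hw
          rcases hw with rfl | ⟨k, hk', rfl⟩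
          · exact hmem _ (List.mem_cons_of_mem _ hx')
          · obtain ⟨hk1, hk2⟩ := List.mem_filter.1 hk'
            simp only [Bool.not_eq_true'] at hk2
            refine ((h2 x' (List.mem_cons_of_mem _ hx')).2 k hk1).resolve_right fun hh' => ?_
            rw [memB_iff.2 hh'] at hk2
            exact absurd hk2 (by simp)
        refine ⟨z₁ * z₂, mul_mem hz₁ hz₂, ?_⟩
        have e3 : ((nxtM c Zc e.1 x.1).map fun k => (k, bump e.2 x.2.1 x.2.2)).map
              (fun x => xg D F x.1 (u * monT φ t x.2.1 x.2.2)) =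
            ((nxt c e.1 x.1).filter fun k => !(memB k Zc)).map
              fun k => xg D F k (τ * (u * monT φ t x.2.1 x.2.2)) := by
          rw [List.map_map]
          refine List.map_congr_left fun k _ => ?_
          simp only [Function.comp_apply, monT_bump]
          congr 1
          rw [← hτ]; ring
        rw [List.map_cons, List.prod_cons, List.flatMap_cons, List.map_append, List.prod_append,
          List.map_cons, List.prod_cons, e3]
        calc _ = (xg D F e.1 τ * xg D F x.1 (u * monT φ t x.2.1 x.2.2) * xg D F e.1 τ) *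
              (xg D F e.1 τ * (L.map fun x => xg D F x.1 (u * monT φ t x.2.1 x.2.2)).prod * xg D F e.1 τ) := by
              simp only [mul_assoc]
              rw [← mul_assoc (xg D F e.1 τ) (xg D F e.1 τ), xg_sq hV, one_mul]
          _ = xg D F x.1 (u * monT φ t x.2.1 x.2.2) *
              ((((nxt c e.1 x.1).filter fun k => !(memB k Zc)).map
                fun k => xg D F k (τ * (u * monT φ t x.2.1 x.2.2))).prod * z₁) * (P * z₂) := by
              rw [hc, eL, eN]
          _ = _ := by
              simp only [mul_assoc]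
              rw [← mul_assoc z₁ P, ← hzP.eq, mul_assoc]
    obtain ⟨z', hz', ek⟩ := key
    refine ⟨z' * z, mul_mem hz' hz, ?_⟩
    calc _ = xg D F e.1 τ * (elS D φ E t * xg D F b u * (elS D φ E t)⁻¹) * xg D F e.1 τ := by
          rw [e1, mul_inv_rev, xg_inv_self hV]; group
      _ = _ := by
          rw [ez, mul_assoc (xg D F e.1 τ), mul_assoc _ z, ← hcz.eq, ← mul_assoc, ← mul_assoc, ek, mul_assoc]

theorem conj_qel2 (φ : F ≃+* F) (hN : Q.Nodup) {E : List (ℕ × Bool)} (hE : ∀ e ∈ E, e.1 < D.nroots)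
    (hok : ∀ b ∈ Q, cl2OK c Q Zc E b = true) (t : F) (v : ℕ → F) :
    Eqv D F Zc (elS D φ E t * qel D Q v * (elS D φ E t)⁻¹) (qel D Q fun j =>
      ((contrib2 c Zc E Q).map fun x => if j = x.2.1 then v x.1 * monT φ t x.2.2.1 x.2.2.2 else 0).sum) := by
  have key : ∀ L : List ℕ, (∀ b ∈ L, b ∈ Q) → Eqv D F Zc (elS D φ E t * qel D L v * (elS D φ E t)⁻¹)
      ((L.flatMap fun b => (cl2 c Zc E b).map fun x => (b, x)).map
        fun x : ℕ × ℕ × ℕ × ℕ => xg D F x.2.1 (v x.1 * monT φ t x.2.2.1 x.2.2.2)).prod := by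
    intro L
    induction L with
    | nil => intro _; exact ⟨1, one_mem _, by simp [qel]⟩
    | cons b L ih =>
      intro hL
      obtain ⟨z₂, hz₂, e₂⟩ := ih fun a ha => hL a (List.mem_cons_of_mem _ ha)
      obtain ⟨z₁, hz₁, e₁⟩ := conj_xg2 hV hQ hZ hA φ hE (hok b (hL b List.mem_cons_self)) t (v b)
      refine ⟨z₁ * z₂, mul_mem hz₁ hz₂, ?_⟩
      have e0 : qel D (b :: L) v = xg D F b (v b) * qel D L v := by simp [qel]
      set P := ((L.flatMap fun b => (cl2 c Zc E b).map fun x => (b, x)).map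
        fun x : ℕ × ℕ × ℕ × ℕ => xg D F x.2.1 (v x.1 * monT φ t x.2.2.1 x.2.2.2)).prod with hP
      have hzP : Commute P z₁ := Commute.list_prod_left _ _ fun y hy => by
        obtain ⟨w, hw, rfl⟩ := List.mem_map.1 hy
        obtain ⟨b', hb', hw⟩ := List.mem_flatMap.1 hw
        obtain ⟨x, hx, rfl⟩ := List.mem_map.1 hw
        exact abelB_cen hV hQ hZ hA (List.mem_append_left _
          (cl2OK_mem hV hQ hZ hA (hok b' (hL b' (List.mem_cons_of_mem _ hb'))) x hx)) _ hz₁
      rw [e0, ← conj_mul, e₁, e₂, List.flatMap_cons, List.map_append, List.prod_append, List.map_map]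
      simp only [Function.comp_def, mul_assoc]
      rw [← mul_assoc z₁ P, ← hzP.eq, mul_assoc]
  obtain ⟨z, hz, e⟩ := key Q fun _ h => h
  obtain ⟨z', hz', e'⟩ := prod_eqv_qel hV hQ hZ hA hN (contrib2 c Zc E Q) (fun x => x.2.1)
    (fun x => v x.1 * monT φ t x.2.2.1 x.2.2.2) (by
      intro x hx
      simp only [contrib2, List.mem_flatMap, List.mem_map] at hx
      obtain ⟨b, hb, y, hy, rfl⟩ := hx
      exact cl2OK_mem hV hQ hZ hA (hok b hb) y hy)
  refine ⟨z' * z, mul_mem hz' hz, ?_⟩
  rw [e]
  show _ = _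
  simp only [contrib2] at e' ⊢
  rw [e', mul_assoc]

end coords

end

end Cfsg.Agent.TwistInvol
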