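/-
The fixed elements of a twist in characteristic two: products of root elements over orbits of length at most two.
-/
import Cfsg.Agent.Lib.TwistInvol.Coord

set_option autoImplicit false

namespace Cfsg.Agent.TwistInvol

open Cfsg.Lie Cfsg.Agent.Chev Cfsg.Agent.ChevInvol

/-- A symmetry of order two acting on the root elements. -/
structure Tws (D : ChevalleyDatum) (F : Type*) [Field F] (γ : ℕ → ℕ) where
  /-- the field automorphism -/
  φ : F ≃+* F
  inv : ∀ x, φ (φ x) = x
  trace : ∀ w, φ w = w → ∃ t, t + φ t = w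
  /-- the automorphism -/
  σ : GL D.Idx F ≃* GL D.Idx F
  σ_x : ∀ r < D.nroots, ∀ t, σ (xg D F r t) = xg D F (γ r) (φ t)
  γ_lt : ∀ r < D.nroots, γ r < D.nroots
  γ_inv : ∀ r < D.nroots, γ (γ r) = r

variable (γ : ℕ → ℕ)

/-- fixed root -/
def fixB (r : ℕ) : Bool := Nat.beq (γ r) r

theorem fixB_iff {r : ℕ} : fixB γ r = true ↔ γ r = r := by simp [fixB]

theorem fixB_false {r : ℕ} : fixB γ r = false ↔ γ r ≠ r := by
  rw [← Bool.not_eq_true, fixB_iff]

/-- the orbit element of a root -/
def oelL (r : ℕ) : List (ℕ × Bool) := cond (fixB γ r) [(r, false)] [(r, false), (γ r, true)]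

/-- no fixed root -/
def freeB (m : List (ℕ × Bool)) : Bool := m.all fun e => !(fixB γ e.1)

/-- the roots and parameters of a product of orbit elements -/
def expand (m : List (ℕ × Bool)) : List (ℕ × Bool) :=
  m.flatMap fun e => cond (fixB γ e.1) [(e.1, false)]
    [(e.1, freeB γ m && e.2), (γ e.1, freeB γ m && !e.2)]

variable {γ} {c : Cert} {F : Type*} [Field F] {D : ChevalleyDatum}

/-- the group generated by the orbit elements of a list of roots -/
def Tw (s : Tws D F γ) (rts : List ℕ) : Subgroup (GL D.Idx F) :=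
  Subgroup.closure {g | ∃ r ∈ rts, ∃ τ, (γ r = r → s.φ τ = τ) ∧ g = elS D s.φ (oelL γ r) τ}

theorem oel_mem_Tw (s : Tws D F γ) {rts : List ℕ} {r : ℕ} (hr : r ∈ rts) {τ : F}
    (h : γ r = r → s.φ τ = τ) : elS D s.φ (oelL γ r) τ ∈ Tw s rts :=
  Subgroup.subset_closure ⟨r, hr, τ, h, rfl⟩

theorem Tw_mono (s : Tws D F γ) {L L' : List ℕ} (h : ∀ r ∈ L, r ∈ L') : Tw s L ≤ Tw s L' :=
  Subgroup.closure_mono fun _ ⟨r, hr, τ, hτ, e⟩ => ⟨r, h r hr, τ, hτ, e⟩

theorem elS_append (φ : F ≃+* F) (E E' : List (ℕ × Bool)) (t : F) :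
    elS D φ (E ++ E') t = elS D φ E t * elS D φ E' t := by simp [elS]

theorem elS_mem_Tw (s : Tws D F γ) {rts : List ℕ} {m : List (ℕ × Bool)} (hm : ∀ e ∈ m, e.1 ∈ rts) {t : F}
    (ht : freeB γ m = false → s.φ t = t) : elS D s.φ (expand γ m) t ∈ Tw s rts := by
  have key : ∀ l : List (ℕ × Bool), (∀ e ∈ l, e ∈ m) →
      elS D s.φ (l.flatMap fun e => cond (fixB γ e.1) [(e.1, false)]
        [(e.1, freeB γ m && e.2), (γ e.1, freeB γ m && !e.2)]) t ∈ Tw s rts := by
    intro l
    induction l with
    | nil => intro _; simp [elS, one_mem]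
    | cons e l ih =>
      intro hl
      have he := hl e List.mem_cons_self
      rw [List.flatMap_cons, elS_append]
      refine mul_mem ?_ (ih fun x hx => hl x (List.mem_cons_of_mem _ hx))
      cases hfix : fixB γ e.1 with
      | true =>
        have hnf : freeB γ m = false := by
          rw [← Bool.not_eq_true, freeB, List.all_eq_true]
          intro h
          have := h e he
          rw [hfix] at this
          simp at this
        have e1 : oelL γ e.1 = [(e.1, false)] := by simp [oelL, hfix]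
        rw [cond_true, ← e1]
        exact oel_mem_Tw s (hm e he) fun _ => ht hnf
      | false =>
        have e1 : oelL γ e.1 = [(e.1, false), (γ e.1, true)] := by simp [oelL, hfix]
        have hne : γ e.1 = e.1 → s.φ t = t := fun h => absurd h ((fixB_false γ).1 hfix)
        cases hf : freeB γ m with
        | false =>
          have hφ := ht hf
          have := oel_mem_Tw s (hm e he) (τ := t) hne
          rw [e1] at this
          simpa [elS, hφ, hf] using this
        | true =>
          cases h2 : e.2 with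
          | false =>
            have := oel_mem_Tw s (hm e he) (τ := t) hne
            rw [e1] at this
            simpa [elS, hf, h2] using this
          | true =>
            have := oel_mem_Tw s (hm e he) (τ := s.φ t) (fun h => absurd h ((fixB_false γ).1 hfix))
            rw [e1] at this
            simpa [elS, hf, h2, s.inv] using this
  exact key m fun _ h => h

/-- roots of orbit elements which commute -/
noncomputable def rtsOK (c : Cert) (γ : ℕ → ℕ) (rts : List ℕ) : Bool :=
  allL (fun r => Nat.blt r c.nroots && memB (γ r) rts && commB c r (γ r)) rts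

section

variable (hV : Valid D c) [CharP F 2] (s : Tws D F γ)
include hV

omit [CharP F 2] in
theorem rtsOK_spec {rts : List ℕ} (h : rtsOK c γ rts = true) :
    ∀ r ∈ rts, r < D.nroots ∧ γ r ∈ rts ∧ commB c r (γ r) = true := by
  simp only [rtsOK, allL_iff, Bool.and_eq_true, memB_iff, hV.nroots_eq] at h
  exact fun r hr => ⟨by simpa using (h r hr).1.1, (h r hr).1.2, (h r hr).2⟩

theorem σ_oel {r : ℕ} (hr : r < D.nroots) (hc : commB c r (γ r) = true) {τ : F} (hτ : γ r = r → s.φ τ = τ) :
    s.σ (elS D s.φ (oelL γ r) τ) = elS D s.φ (oelL γ r) τ := by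
  cases hfix : fixB γ r with
  | true =>
    have h := (fixB_iff γ).1 hfix
    simp [oelL, hfix, elS, s.σ_x r hr, h, hτ h]
  | false =>
    simp only [oelL, hfix, cond_false, elS, List.map_cons, List.map_nil, List.prod_cons, List.prod_nil, mul_one,
      cond_true, map_mul, s.σ_x r hr, s.σ_x _ (s.γ_lt r hr), s.γ_inv r hr, s.inv]
    exact (commute_of_commB hV hr (s.γ_lt r hr) hc τ (s.φ τ)).eq.symm

theorem σ_Tw {rts : List ℕ} (h : rtsOK c γ rts = true) {g : GL D.Idx F} (hg : g ∈ Tw s rts) : s.σ g = g := by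
  induction hg using Subgroup.closure_induction with
  | mem x hx =>
    obtain ⟨r, hr, τ, hτ, rfl⟩ := hx
    obtain ⟨h1, -, h3⟩ := rtsOK_spec hV h r hr
    exact σ_oel hV s h1 h3 hτ
  | one => exact map_one _
  | mul x y _ _ hx hy => rw [map_mul, hx, hy]
  | inv x _ hx => rw [map_inv, hx]

theorem Tw_le_Hgrp {rts : List ℕ} (h : rtsOK c γ rts = true) : Tw s rts ≤ Hgrp D F rts := by
  rw [Tw, Subgroup.closure_le]
  rintro _ ⟨r, hr, τ, -, rfl⟩
  refine Subgroup.list_prod_mem _ fun x hx => ?_
  obtain ⟨e, he, rfl⟩ := List.mem_map.1 hx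
  obtain ⟨-, h2, -⟩ := rtsOK_spec hV h r hr
  unfold oelL at he
  cases hfix : fixB γ r <;> rw [hfix] at he <;> simp only [cond_true, cond_false, List.mem_cons,
    List.not_mem_nil, or_false] at he
  · rcases he with rfl | rfl
    exacts [xg_mem_Hgrp hr _, xg_mem_Hgrp h2 _]
  · subst he; exact xg_mem_Hgrp hr _

omit hV [CharP F 2] in
theorem σ_Hgrp {L L' : List ℕ} (hL : ∀ r ∈ L, r < D.nroots ∧ γ r ∈ L') {g : GL D.Idx F}
    (hg : g ∈ Hgrp D F L) : s.σ g ∈ Hgrp D F L' := by
  induction hg using Subgroup.closure_induction with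
  | mem x hx =>
    obtain ⟨r, hr, t, rfl⟩ := hx
    rw [s.σ_x r (hL r hr).1]
    exact xg_mem_Hgrp (hL r hr).2 _
  | one => simp
  | mul x y _ _ hx hy => rw [map_mul]; exact mul_mem hx hy
  | inv x _ hx => rw [map_inv]; exact inv_mem hx

omit hV [CharP F 2] in
theorem σ_prod {L : List ℕ} (hL : ∀ r ∈ L, r < D.nroots) (u : ℕ → F) :
    s.σ (L.map fun r => xg D F r (u r)).prod = (L.map fun r => xg D F (γ r) (s.φ (u r))).prod := by
  rw [map_list_prod, List.map_map]
  exact congrArg List.prod (List.map_congr_left fun r hr => s.σ_x r (hL r hr) _)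

end

end Cfsg.Agent.TwistInvol
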