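/-
A decision tree for involutions `q z s` fixed by a twist of order two: `q` in a radical which is abelian modulo
the central list `z` lives on, `s` a product of orthogonal root elements.
-/
import Cfsg.Agent.Lib.TwistInvol.Basic

set_option autoImplicit false

namespace Cfsg.Agent.TwistInvol

open Cfsg.Lie Cfsg.Agent.Chev Cfsg.Agent.ChevInvol

/-- how the parameter of a move is found -/
inductive Kind
  | one (i j : ℕ)
  | tr
  | quad

/-- The steps. -/
inductive Tr
  | absurd (j a : ℕ)
  | absurdQ (a b : ℕ)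
  | zero (j b : ℕ) (T : Tr)
  | eq (j a b : ℕ) (T : Tr)
  | real (j b : ℕ) (T : Tr)
  | kill (b tgt : ℕ) (T : Tr)
  | move (m : List (ℕ × Bool)) (p tgt : ℕ) (k : Kind) (T : Tr)
  | split (x : ℕ) (T₀ T₁ : Tr)
  | leafC (os : List ℕ) (w : List (ℕ × ℕ))
  | leafK (os : List ℕ) (w : List (ℕ × ℕ)) (b : ℕ)
  | leafT (os : List ℕ) (w : List (ℕ × ℕ)) (z : ℕ) (w' : List (ℕ × ℕ))

/-- The data of one level. -/
structure Ctx where
  rts : List ℕ
  Q : List ℕ
  Zc : List ℕ
  R : List ℕ
  reps : List (List ℕ)

/-- `a` occurs an odd number of times -/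
def oddIn (a : ℕ) : List ℕ → Bool
  | [] => false
  | b :: l => xor (Nat.beq a b) (oddIn a l)

/-- odd length -/
def oddLen {α : Type*} : List α → Bool
  | [] => false
  | _ :: l => !(oddLen l)

/-- every element occurs an even number of times -/
def evenAll (l : List (ℕ × Bool)) : Bool := l.all fun a => l.count a % 2 == 0

/-- an unordered pair -/
def nrm (a b : ℕ) : ℕ × ℕ := cond (Nat.blt a b) (a, b) (b, a)

variable (c : Cert) (γ : ℕ → ℕ)

/-- the orbit of a root -/
def orbR (r : ℕ) : List ℕ := (oelL γ r).map Prod.fst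

/-- the roots of `s`, with parameter one -/
def Ctx.ER (X : Ctx) : List (ℕ × Bool) := X.R.map fun r => (r, false)

/-- contributions to `j` from other sources not known to be zero -/
def others (Z : List ℕ) (j : ℕ) (E : List (ℕ × ℕ × ℕ × ℕ)) : List (ℕ × ℕ × ℕ × ℕ) :=
  E.filter fun x => Nat.beq x.2.1 j && !(memB x.1 Z) && !(Nat.beq x.1 j)

/-- the sources of these contributions, with their monomials -/
def srcs (Z : List ℕ) (j : ℕ) (E : List (ℕ × ℕ × ℕ × ℕ)) : List (ℕ × ℕ × ℕ) :=
  (others Z j E).map fun x => (x.1, x.2.2)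

/-- `j` contributes exactly once to itself, in degree zero -/
def selfOK (j : ℕ) (E : List (ℕ × ℕ × ℕ × ℕ)) : Bool :=
  match E.filter fun x => Nat.beq x.2.1 j && Nat.beq x.1 j with
  | [(_, _, a, b)] => Nat.beq a 0 && Nat.beq b 0
  | _ => false

/-- `v j` is fixed by the field automorphism -/
def realB (M : List ℕ) (j : ℕ) : Bool := fixB γ j || memB j M

/-- an equation of the involution with the given sources -/
noncomputable def eqnOK (X : Ctx) (Z : List ℕ) (j : ℕ) (l : List ℕ) : Bool :=
  let E := contrib2 c X.Zc X.ER X.Q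
  memB j X.Q && selfOK j E && ((others Z j E).map Prod.fst).isPerm l

/-- the pairs of a list with their commutator roots -/
noncomputable def qPairs : List ℕ → List (ℕ × ℕ × ℕ)
  | [] => []
  | a :: l => (l.flatMap fun b => (nxt c a b).map fun k => (a, b, k)) ++ qPairs l

/-- the square of `q` is the only obstruction, with the given pairs of coordinates -/
noncomputable def quadOK (X : Ctx) (Z : List ℕ) (l : List (ℕ × ℕ)) : Bool :=
  match X.Zc with
  | [z] =>
    let A := X.Q.filter fun j => !(memB j Z)
    allL (fun j => allL (fun r => commB c r j) X.R) A &&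
      allL (fun x : ℕ × ℕ × ℕ => Nat.beq x.2.2 z) (qPairs c A) &&
      ((qPairs c A).map fun x => nrm x.1 x.2.1).isPerm l
  | _ => false

/-- coordinates changed by a kill, with the parameter -/
noncomputable def killL (X : Ctx) (b : ℕ) : List ℕ := b :: (cl2 c X.Zc X.ER b).map Prod.fst

/-- coordinates changed by a kill, with the conjugate parameter -/
noncomputable def killL' (X : Ctx) (b : ℕ) : List ℕ := cond (fixB γ b) [] (killL c X (γ b))

/-- roots of the commutators of a product with `A` -/
noncomputable def termsL (A : List ℕ) (E : List (ℕ × Bool)) : List (ℕ × Bool) :=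
  A.flatMap fun a => E.flatMap fun e => (nxt c e.1 a).map fun k => (k, e.2)

/-- the commutators are controlled -/
noncomputable def termsOK (A : List ℕ) (E : List (ℕ × Bool)) : Bool :=
  let T := termsL c A E
  allL (fun a => allL (fun e : ℕ × Bool => adjOK c e.1 a) E) A &&
    allL (fun x : ℕ × Bool => Nat.blt x.1 c.nroots) T &&
    allL (fun x : ℕ × Bool => allL (fun e : ℕ × Bool => commB c e.1 x.1) E) T &&
    commL c (A ++ T.map Prod.fst)

/-- the move preserves `s` and the central list -/
noncomputable def moveOK (X : Ctx) (m : List (ℕ × Bool)) : Bool :=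
  let E := expand γ m
  allL (fun e : ℕ × Bool => memB e.1 X.rts) m && allL (fun e : ℕ × Bool => Nat.blt e.1 c.nroots) E &&
    allL (fun e : ℕ × Bool => allL (fun z => commB c e.1 z) X.Zc) E && termsOK c X.R E &&
    evenAll (termsL c X.R E) && allL (fun b => cl2OK c X.Q X.Zc E b) X.Q

/-- the parameter of a move exists -/
noncomputable def kindOK (X : Ctx) (Z N M : List ℕ) (m : List (ℕ × Bool)) (p tgt : ℕ)
    (S : List (ℕ × ℕ × ℕ)) : Kind → Bool
  | .one i j => S.isPerm [(p, i, j)] &&
      cond (freeB γ m)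
        ((Nat.beq i 1 && Nat.beq j 0) || (Nat.beq i 0 && Nat.beq j 1) || (Nat.beq i 2 && Nat.beq j 0) ||
          (Nat.beq i 0 && Nat.beq j 2) || (Nat.beq i 1 && Nat.beq j 1 && realB γ M tgt && realB γ M p))
        (realB γ M tgt && realB γ M p && Nat.beq j 0 && (Nat.beq i 1 || Nat.beq i 2))
  | .tr => freeB γ m && realB γ M tgt && S.isPerm [(p, 1, 0), (γ p, 0, 1)]
  | .quad => !(freeB γ m) && S.isPerm [(p, 1, 0)] && quadOK c X Z [nrm p (γ tgt), nrm (γ p) tgt] &&
      memB tgt X.Q && memB p X.Q && memB p N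

/-- the parameter of a move is nonzero -/
def gainB (N : List ℕ) (tgt : ℕ) : Kind → Bool
  | .one _ _ => memB tgt N
  | _ => false

/-- orbit elements and their negatives -/
noncomputable def orbOK (rts : List ℕ) (r : ℕ) : Bool :=
  memB r rts && memB (c.ng r) rts && Nat.beq (γ (c.ng r)) (c.ng (γ r)) &&
    (fixB γ r || (commB c r (γ r) && commB c r (c.ng (γ r)) && commB c (c.ng r) (γ r) &&
      commB c (c.ng r) (c.ng (γ r))))

/-- orthogonal roots -/
noncomputable def orthB (L : List ℕ) : Bool :=
  nodupB L && allL (fun a => allL (fun b => intBeq (c.pair a b) (cond (Nat.beq a b) 2 0)) L) L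

/-- the image under a word in simple orbits -/
noncomputable def wImg (w : List (ℕ × ℕ)) (a : ℕ) : ℕ :=
  w.foldr (fun g x => cond (fixB γ (c.p g.1)) (c.w g.1 x) (c.w g.1 (c.w g.2 x))) a

/-- a simple orbit -/
noncomputable def nodeOK (rts : List ℕ) (g : ℕ × ℕ) : Bool :=
  Nat.blt g.1 c.rank && Nat.blt g.2 c.rank && Nat.beq (γ (c.p g.1)) (c.p g.2) && orbOK c γ rts (c.p g.1)

/-- a list of orthogonal orbits mapped to a representative by a word -/
noncomputable def shapeOK (rts : List ℕ) (reps : List (List ℕ)) (L os : List ℕ) (w : List (ℕ × ℕ)) : Bool :=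
  let Fl := os.flatMap (orbR γ)
  allL (fun r => orbOK c γ rts r) os && orthB c Fl && commL c L && Fl.isPerm L &&
    allL (fun g => nodeOK c γ rts g) w && commL c (Fl.map (wImg c γ w)) &&
    reps.any (fun R' => (Fl.map (wImg c γ w)).isPerm R')

/-- the roots at a leaf -/
def leafL (X : Ctx) (Z : List ℕ) : List ℕ := (X.Q.filter fun j => !(memB j Z)) ++ X.R

/-- all coordinates are decided -/
noncomputable def coverB (X : Ctx) (Z N : List ℕ) : Bool :=
  allL (fun j => memB j Z || memB j N) X.Q && allL (fun r => !(memB r X.Q)) X.R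

/-- the central factor is removed by an orbit element -/
noncomputable def removeOK (X : Ctx) (os : List ℕ) (b : ℕ) : Bool :=
  match X.Zc with
  | [z] =>
    let A := os.flatMap (orbR γ)
    let E := oelL γ b
    let T := termsL c A E
    memB b X.rts && allL (fun e : ℕ × Bool => Nat.blt e.1 c.nroots && commB c e.1 z) E && termsOK c A E &&
      allL (fun x : ℕ × Bool => Nat.beq x.1 z) T && oddLen (T.filter fun x => !x.2) &&
      (fixB γ b || oddLen (T.filter fun x => x.2))
  | _ => false

/-- the central factor is kept -/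
noncomputable def keepOK (X : Ctx) (Z os : List ℕ) (z : ℕ) (w' : List (ℕ × ℕ)) : Bool :=
  match X.Zc with
  | [z'] => Nat.beq z z' && !(memB z (leafL X Z)) &&
      shapeOK c γ X.rts X.reps (leafL X Z ++ [z]) (os ++ [z]) w'
  | _ => false

/-- The checker. -/
noncomputable def check (X : Ctx) : Tr → List ℕ → List ℕ → List ℕ → Bool
  | .absurd j a, Z, N, _ => eqnOK c X Z j [a] && memB a N
  | .absurdQ a b, Z, N, _ => quadOK c X Z [nrm a b] && memB a N && memB b N
  | .zero j b T, Z, N, M => eqnOK c X Z j [b] && memB b X.Q && check X T (b :: γ b :: Z) N M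
  | .eq j a b T, Z, N, M =>
    eqnOK c X Z j [a, b] && memB a N && memB b X.Q && check X T Z (b :: γ b :: N) M
  | .real j b T, Z, N, M =>
    eqnOK c X Z j [b, γ b] && memB b X.Q && check X T Z N (b :: γ b :: M)
  | .kill b tgt T, Z, N, M =>
    let K := killL c X b
    let K' := killL' c γ X b
    let ch := fun j => oddIn j K || oddIn j K'
    memB b X.Q && memB b X.rts && memB tgt X.Q &&
      cond (fixB γ b) (realB γ M tgt && oddIn tgt K)
        (cond (oddIn tgt K) (!(oddIn tgt K') || realB γ M tgt) (oddIn tgt K')) &&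
      check X T (tgt :: γ tgt :: Z.filter fun j => !(ch j))
        (N.filter fun j => !(ch j) && !(Nat.beq j tgt) && !(Nat.beq j (γ tgt)))
        (M.filter fun j => !(ch j))
  | .move m p tgt k T, Z, N, M =>
    let E := contrib2 c X.Zc (expand γ m) X.Q
    let same := fun j => memB j X.Q && selfOK j E && (others Z j E).isEmpty
    let gained := fun j => gainB N tgt k && memB j X.Q && selfOK j E &&
      match srcs Z j E with
      | [(a, _, _)] => memB a N
      | _ => false
    moveOK c γ X m && memB tgt X.Q && memB p X.Q && memB p N && selfOK tgt E &&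
      kindOK c γ X Z N M m p tgt (srcs Z tgt E) k &&
      check X T (tgt :: γ tgt :: Z.filter fun j => memB j X.Q &&
          allL (fun x : ℕ × ℕ × ℕ × ℕ => !(Nat.beq x.2.1 j) || memB x.1 Z) E)
        ((N.filter fun j => same j && !(Nat.beq j tgt) && !(Nat.beq j (γ tgt))) ++
          Z.filter fun j => gained j && !(Nat.beq j tgt) && !(Nat.beq j (γ tgt)))
        (M.filter same)
  | .split x T₀ T₁, Z, N, M =>
    memB x X.Q && check X T₀ (x :: γ x :: Z) N M && check X T₁ Z (x :: γ x :: N) M
  | .leafC os w, Z, N, _ =>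
    X.Zc.isEmpty && coverB X Z N && shapeOK c γ X.rts X.reps (leafL X Z) os w
  | .leafK os w b, Z, N, _ =>
    coverB X Z N && shapeOK c γ X.rts X.reps (leafL X Z) os w && removeOK c γ X os b
  | .leafT os w z w', Z, N, _ =>
    coverB X Z N && shapeOK c γ X.rts X.reps (leafL X Z) os w && keepOK c γ X Z os z w'

/-- the standing conditions on a context -/
noncomputable def ctxOK (X : Ctx) : Bool :=
  rtsOK c γ X.rts && allL (fun r => Nat.blt r c.nroots) X.R && commL c X.R && (X.R.map γ).isPerm X.R &&
    allL (fun b => Nat.ble (c.nroots / 2) b && Nat.blt b c.nroots) (X.Q ++ X.Zc) &&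
    beqL Nat.beq (X.Q ++ X.Zc)
      ((List.range' (c.nroots / 2) (c.nroots - c.nroots / 2)).filter fun j => memB j (X.Q ++ X.Zc)) &&
    abelB c X.Q X.Zc && allL (fun b => memB (γ b) X.Q) X.Q && allL (fun z => fixB γ z) X.Zc &&
    allL (fun b => cl2OK c X.Q X.Zc X.ER b) X.Q &&
    allL (fun z => allL (fun r => commB c r z) X.R) X.Zc

end Cfsg.Agent.TwistInvol
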