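/-
Fixed torus and Weyl elements, and conjugates of products of commuting root elements by orbit elements.
-/
import Cfsg.Agent.Lib.TwistInvol.Check
import Cfsg.Agent.Lib.Chev.Sylow

set_option autoImplicit false

namespace Cfsg.Agent.TwistInvol

open Cfsg.Lie Cfsg.Agent.Chev Cfsg.Agent.ChevInvol

variable {γ : ℕ → ℕ} {c : Cert} {F : Type*} [Field F] {D : ChevalleyDatum}

/-- conjugation of a list product -/
theorem conj_prod_map {G α : Type*} [Group G] (h : G) (f : α → G) : ∀ L : List α,
    h * (L.map f).prod * h⁻¹ = (L.map fun a => h * f a * h⁻¹).prod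
  | [] => by simp
  | a :: L => by rw [List.map_cons, List.prod_cons, List.map_cons, List.prod_cons, ← conj_mul, conj_prod_map h f L]

theorem nodupB_flat_cons {o : ℕ} {os : List ℕ} (h : (((o :: os).flatMap (orbR γ))).Nodup) :
    (os.flatMap (orbR γ)).Nodup ∧ ∀ a ∈ orbR γ o, a ∉ os.flatMap (orbR γ) := by
  rw [List.flatMap_cons, List.nodup_append] at h
  exact ⟨h.2.1, fun a ha hb => h.2.2 a ha a hb rfl⟩

theorem mem_orbR {r a : ℕ} : a ∈ orbR γ r ↔ a = r ∨ a = γ r := by
  unfold orbR oelL
  cases h : fixB γ r with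
  | true => simp [(fixB_iff γ).1 h]
  | false => simp

section

variable (hV : Valid D c) [CharP F 2] (s : Tws D F γ)
include hV

omit [CharP F 2] in
theorem hG_act {n : ℕ} (hn : n < D.nroots) {d : F} (hd0 : d ≠ 0) {b : ℕ} (hb : b < D.nroots) (y : F) :
    hG D F n d * xg D F b y * (hG D F n d)⁻¹ = xg D F b (d ^ c.pair n b * y) := by
  have hD : Good D := good' hV
  have key : ∀ l : List ℕ, (∀ i ∈ l, i < D.rank) →
      (l.map fun i => hG D F (D.simple i) (d ^ (D.coroot.getD n #[]).getD i 0)).prod * xg D F b y =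
        xg D F b (d ^ (l.map fun i => c.crt n i * c.A i b).sum * y) *
          (l.map fun i => hG D F (D.simple i) (d ^ (D.coroot.getD n #[]).getD i 0)).prod := by
    intro l
    induction l with
    | nil => intro _; simp
    | cons i l ihl =>
      intro hl
      have hi := hl i List.mem_cons_self
      rw [List.map_cons, List.prod_cons, mul_assoc, ihl (fun j hj => hl j (List.mem_cons_of_mem _ hj)),
        ← mul_assoc, hD.hG_mul_xg hi hb (zpow_ne_zero _ hd0), hV.crt_eq hn, hV.A_eq hi hb, mul_assoc,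
        List.map_cons, List.sum_cons, zpow_add₀ hd0, _root_.zpow_mul, mul_assoc (_ ^ _) (_ ^ _) y]
  rw [hD.hG_eq_prod hn hd0, key _ (fun i hi => List.mem_range.1 hi), mul_inv_cancel_right, Cert.pair,
    hV.rank_eq]

/-- the fixed representative of the reflection in an orbit -/
noncomputable def nT (r : ℕ) (d : F) : GL D.Idx F :=
  cond (fixB γ r) (nG D F r d) (nG D F r d * nG D F (γ r) (s.φ d))

/-- the fixed torus element of an orbit -/
noncomputable def hT (r : ℕ) (d : F) : GL D.Idx F :=
  cond (fixB γ r) (hG D F r d) (hG D F r d * hG D F (γ r) (s.φ d))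

omit [CharP F 2] in
theorem orbOK_spec {rts : List ℕ} (hR : rtsOK c γ rts = true) {r : ℕ} (h : orbOK c γ rts r = true) :
    r < D.nroots ∧ r ∈ rts ∧ c.ng r ∈ rts ∧ γ (c.ng r) = c.ng (γ r) ∧ D.neg r = c.ng r ∧
      D.neg (γ r) = c.ng (γ r) := by
  simp only [orbOK, Bool.and_eq_true, memB_iff, Nat.beq_eq] at h
  obtain ⟨hr, hγ, -⟩ := rtsOK_spec hV hR r h.1.1.1
  exact ⟨hr, h.1.1.1, h.1.1.2, h.1.2, hV.ng_eq hr, hV.ng_eq ((rtsOK_spec hV hR _ hγ).1)⟩

theorem nT_mem {rts : List ℕ} (hR : rtsOK c γ rts = true) {r : ℕ} (h : orbOK c γ rts r = true) {d : F}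
    (hd : γ r = r → s.φ d = d) : nT s r d ∈ Tw s rts := by
  obtain ⟨hr, hmem, hneg, hγn, e1, e2⟩ := orbOK_spec hV hR h
  have hn : ∀ x : F, -x = x := fun x => CharTwo.neg_eq x
  cases hf : fixB γ r with
  | true =>
    have hfx := (fixB_iff γ).1 hf
    have hd' := hd hfx
    have hfx' : γ (c.ng r) = c.ng r := by rw [hγn, hfx]
    have o1 : ∀ τ : F, s.φ τ = τ → xg D F r τ ∈ Tw s rts := fun τ hτ => by
      have := oel_mem_Tw s hmem (τ := τ) (fun _ => hτ)
      simpa [oelL, hf, elS] using this
    have o2 : ∀ τ : F, s.φ τ = τ → xg D F (c.ng r) τ ∈ Tw s rts := fun τ hτ => by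
      have := oel_mem_Tw s hneg (τ := τ) (fun _ => hτ)
      simpa [oelL, (fixB_iff γ).2 hfx', elS] using this
    simp only [nT, hf, cond_true]
    rw [nG_eq, e1]
    exact mul_mem (mul_mem (o1 _ hd') (o2 _ (by simp [hd', map_neg, map_inv₀]))) (o1 _ hd')
  | false =>
    have hfx := (fixB_false γ).1 hf
    simp only [orbOK, Bool.and_eq_true, hf, Bool.false_or] at h
    obtain ⟨-, ⟨⟨h1, h2⟩, h3⟩, h4⟩ := h
    have hγ := s.γ_lt r hr
    have hnr : c.ng r < D.nroots := (rtsOK_spec hV hR _ hneg).1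
    have hnγ : c.ng (γ r) < D.nroots := by rw [← hγn]; exact s.γ_lt _ hnr
    have hf' : fixB γ (c.ng r) = false := by
      rw [fixB_false]
      intro e
      apply hfx
      have hD : Good D := good' hV
      have e' : c.ng (γ r) = c.ng r := hγn.symm.trans e
      have h5 := congrArg D.neg e'
      rw [← e1, ← e2] at h5
      rwa [hD.neg_neg hγ, hD.neg_neg hr] at h5
    have c1 := fun a b : F => commute_of_commB hV hr hγ h1 a b
    have c2 := fun a b : F => commute_of_commB hV hr hnγ h2 a b
    have c3 := fun a b : F => commute_of_commB hV hnr hγ h3 a b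
    have c4 := fun a b : F => commute_of_commB hV hnr hnγ h4 a b
    have o1 : ∀ τ : F, xg D F r τ * xg D F (γ r) (s.φ τ) ∈ Tw s rts := fun τ => by
      have := oel_mem_Tw s hmem (τ := τ) (fun e => absurd e hfx)
      simpa [oelL, hf, elS] using this
    have o2 : ∀ τ : F, xg D F (c.ng r) τ * xg D F (c.ng (γ r)) (s.φ τ) ∈ Tw s rts := fun τ => by
      have := oel_mem_Tw s hneg (τ := τ) (fun e => absurd e ((fixB_false γ).1 hf'))
      simpa [oelL, hf', elS, hγn] using this
    have key := mul_mem (mul_mem (o1 d) (o2 (-(d⁻¹)))) (o1 d)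
    simp only [nT, hf, cond_false]
    rw [nG_eq, nG_eq, e1, e2]
    convert key using 1
    simp only [map_neg, map_inv₀]
    set a := xg D F r d
    set b := xg D F (c.ng r) (-d⁻¹)
    set a' := xg D F (γ r) (s.φ d)
    set b' := xg D F (c.ng (γ r)) (-(s.φ d)⁻¹)
    have p1 : Commute a a' := c1 _ _
    have p2 : Commute a b' := c2 _ _
    have p3 : Commute b a' := c3 _ _
    calc a * b * a * (a' * b' * a') = a * b * (a * a') * b' * a' := by group
      _ = a * (b * a') * (a * b') * a' := by rw [p1.eq]; group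
      _ = a * a' * b * b' * (a * a') := by rw [p3.eq, p2.eq]; group
      _ = a * a' * (b * b') * (a * a') := by group

theorem hT_mem {rts : List ℕ} (hR : rtsOK c γ rts = true) {r : ℕ} (h : orbOK c γ rts r = true) {d : F}
    (hd : γ r = r → s.φ d = d) : hT s r d ∈ Tw s rts := by
  obtain ⟨hr, hmem, hneg, hγn, e1, e2⟩ := orbOK_spec hV hR h
  have hm := mul_mem (nT_mem hV s hR h hd) (nT_mem hV s hR h (d := -1) fun _ => by rw [map_neg, map_one])
  cases hf : fixB γ r with
  | true => simpa [hT, nT, hf, hG_eq] using hm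
  | false =>
    simp only [nT, hf, cond_false, map_neg, map_one] at hm
    simp only [hT, hf, cond_false, hG_eq]
    convert hm using 1
    simp only [orbOK, Bool.and_eq_true, hf, Bool.false_or] at h
    obtain ⟨-, ⟨⟨h1, h2⟩, h3⟩, h4⟩ := h
    have hγ := s.γ_lt r hr
    have hnr : c.ng r < D.nroots := (rtsOK_spec hV hR _ hneg).1
    have hnγ : c.ng (γ r) < D.nroots := by rw [← hγn]; exact s.γ_lt _ hnr
    have hc : Commute (nG D F r (-1)) (nG D F (γ r) (s.φ d)) := by
      rw [nG_eq, nG_eq, e1, e2]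
      have c1 := fun a b : F => commute_of_commB hV hr hγ h1 a b
      have c2 := fun a b : F => commute_of_commB hV hr hnγ h2 a b
      have c3 := fun a b : F => commute_of_commB hV hnr hγ h3 a b
      have c4 := fun a b : F => commute_of_commB hV hnr hnγ h4 a b
      exact ((((c1 _ _).mul_right (c2 _ _)).mul_right (c1 _ _)).mul_left
        (((c3 _ _).mul_right (c4 _ _)).mul_right (c3 _ _))).mul_left
        (((c1 _ _).mul_right (c2 _ _)).mul_right (c1 _ _))
    simp only [mul_assoc]
    rw [← mul_assoc (nG D F r (-1)), hc.eq, mul_assoc]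

omit [CharP F 2] in
theorem hT_act {r : ℕ} (hr : r < D.nroots) {d : F} (hd0 : d ≠ 0) {b : ℕ} (hb : b < D.nroots) (y : F) :
    hT s r d * xg D F b y * (hT s r d)⁻¹ =
      xg D F b (cond (fixB γ r) (d ^ c.pair r b * y) (d ^ c.pair r b * (s.φ d ^ c.pair (γ r) b * y))) := by
  cases hf : fixB γ r with
  | true => simp only [hT, hf, cond_true]; exact hG_act hV hr hd0 hb y
  | false =>
    simp only [hT, hf, cond_false]
    have h2 := hG_act hV (s.γ_lt r hr) (d := s.φ d) (by simpa using hd0) hb y
    calc _ = hG D F r d * (hG D F (γ r) (s.φ d) * xg D F b y * (hG D F (γ r) (s.φ d))⁻¹) * (hG D F r d)⁻¹ := by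
          group
      _ = _ := by rw [h2, hG_act hV hr hd0 hb]

variable [Finite F]

/-- scaling orthogonal orbits -/
theorem scale {rts : List ℕ} (hR : rtsOK c γ rts = true) : ∀ {os : List ℕ},
    (∀ r ∈ os, orbOK c γ rts r = true) → (os.flatMap (orbR γ)).Nodup →
    (∀ a ∈ os.flatMap (orbR γ), ∀ b ∈ os.flatMap (orbR γ), c.pair a b = if a = b then 2 else 0) →
    ∀ u : ℕ → F, (∀ a ∈ os.flatMap (orbR γ), u a ≠ 0 ∧ u (γ a) = s.φ (u a)) →
    ∃ h ∈ Tw s rts, (∀ b < D.nroots, ∀ y, ∃ y', h * xg D F b y * h⁻¹ = xg D F b y') ∧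
      (∀ b < D.nroots, (∀ a ∈ os.flatMap (orbR γ), c.pair a b = 0) → ∀ y, h * xg D F b y * h⁻¹ = xg D F b y) ∧
      ∀ a ∈ os.flatMap (orbR γ), h * xg D F a (u a) * h⁻¹ = xg D F a 1 := by
  intro os
  induction os with
  | nil =>
    intro _ _ _ u _
    exact ⟨1, one_mem _, fun b _ y => ⟨y, by simp⟩, fun b _ _ y => by simp, fun a ha => by simp at ha⟩
  | cons o os ih =>
    intro hos hnd hp u hu
    obtain ⟨hnd', hdis⟩ := nodupB_flat_cons hnd
    have hsub : ∀ a ∈ os.flatMap (orbR γ), a ∈ (o :: os).flatMap (orbR γ) := fun a ha => by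
      rw [List.flatMap_cons]; exact List.mem_append_right _ ha
    have hsub' : ∀ a ∈ orbR γ o, a ∈ (o :: os).flatMap (orbR γ) := fun a ha => by
      rw [List.flatMap_cons]; exact List.mem_append_left _ ha
    obtain ⟨h', hh', hdiag, hfix, hone⟩ := ih (fun r hr => hos r (List.mem_cons_of_mem _ hr)) hnd'
      (fun a ha b hb => hp a (hsub a ha) b (hsub b hb)) u fun a ha => hu a (hsub a ha)
    obtain ⟨ho, -⟩ := orbOK_spec hV hR (hos o List.mem_cons_self)
    have hoo : o ∈ orbR γ o := mem_orbR.2 (Or.inl rfl)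
    obtain ⟨d, hd⟩ := FiniteField.isSquare_of_char_two (ringChar.eq F 2) (u o)⁻¹
    obtain ⟨hu0, huφ⟩ := hu o (hsub' o hoo)
    have hd0 : d ≠ 0 := fun e0 => inv_ne_zero hu0 (by rw [hd, e0, mul_zero])
    have hd2 : d ^ (2 : ℤ) * u o = 1 := by rw [zpow_two, ← hd, inv_mul_cancel₀ hu0]
    have hreal : γ o = o → s.φ d = d := by
      intro e
      have h1 : s.φ d * s.φ d = d * d := by rw [← map_mul, ← hd, map_inv₀, ← huφ, e]
      exact CharTwo.sq_injective (by simpa [pow_two] using h1)
    refine ⟨hT s o d * h', mul_mem (hT_mem hV s hR (hos o List.mem_cons_self) hreal) hh', ?_, ?_, ?_⟩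
    · intro b hb y
      obtain ⟨y', e⟩ := hdiag b hb y
      refine ⟨_, (?_ : _ = xg D F b (cond (fixB γ o) (d ^ c.pair o b * y')
        (d ^ c.pair o b * (s.φ d ^ c.pair (γ o) b * y'))))⟩
      rw [← hT_act hV s ho hd0 hb y', ← e]
      group
    · intro b hb hperp y
      have e := hfix b hb (fun a ha => hperp a (hsub a ha)) y
      calc _ = hT s o d * (h' * xg D F b y * h'⁻¹) * (hT s o d)⁻¹ := by group
        _ = _ := by
          rw [e, hT_act hV s ho hd0 hb, hperp o (hsub' o hoo), hperp (γ o) (hsub' _ (mem_orbR.2 (Or.inr rfl)))]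
          simp
    · intro a ha
      have halt : a < D.nroots := by
        obtain ⟨r, hr, hra⟩ := List.mem_flatMap.1 ha
        obtain ⟨hr', -⟩ := orbOK_spec hV hR (hos r hr)
        rcases mem_orbR.1 hra with rfl | rfl
        exacts [hr', s.γ_lt r hr']
      have hpo := hp o (hsub' o hoo) a ha
      have hpγ := hp (γ o) (hsub' _ (mem_orbR.2 (Or.inr rfl))) a ha
      rw [List.flatMap_cons, List.mem_append] at ha
      have key : ∀ y : F, h' * xg D F a (u a) * h'⁻¹ = xg D F a y →
          cond (fixB γ o) (d ^ c.pair o a * y) (d ^ c.pair o a * (s.φ d ^ c.pair (γ o) a * y)) = 1 →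
          hT s o d * h' * xg D F a (u a) * (hT s o d * h')⁻¹ = xg D F a 1 := by
        intro y e e1
        calc _ = hT s o d * (h' * xg D F a (u a) * h'⁻¹) * (hT s o d)⁻¹ := by group
          _ = _ := by rw [e, hT_act hV s ho hd0 halt, e1]
      rcases ha with ha | ha
      · refine key (u a) (hfix a halt (fun x hx => ?_) _) ?_
        · have hne : x ≠ a := fun e => hdis a ha (e ▸ hx)
          rw [hp x (hsub x hx) a (hsub' a ha), if_neg hne]
        · rcases mem_orbR.1 ha with rfl | rfl
          · rw [hpo, if_pos rfl]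
            cases hf : fixB γ a with
            | true => exact hd2
            | false =>
              rw [cond_false, hpγ, if_neg ((fixB_false γ).1 hf), zpow_zero, one_mul, hd2]
          · cases hf : fixB γ o with
            | true =>
              have e := (fixB_iff γ).1 hf
              rw [cond_true, hpo, e, if_pos rfl, hd2]
            | false =>
              rw [cond_false, hpo, hpγ, if_neg (Ne.symm ((fixB_false γ).1 hf)), if_pos rfl, zpow_zero,
                one_mul, huφ, ← map_zpow₀, ← map_mul, hd2, map_one]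
      · refine key 1 (hone a ha) ?_
        have h1 : o ≠ a := fun e => hdis o hoo (e ▸ ha)
        have h2 : γ o ≠ a := fun e => hdis (γ o) (mem_orbR.2 (Or.inr rfl)) (e ▸ ha)
        rw [hpo, hpγ, if_neg h1, if_neg h2]
        simp

omit [CharP F 2] [Finite F] in
theorem nodeOK_spec {rts : List ℕ} {g : ℕ × ℕ} (h : nodeOK c γ rts g = true) :
    g.1 < D.rank ∧ g.2 < D.rank ∧ γ (D.simple g.1) = D.simple g.2 ∧ orbOK c γ rts (D.simple g.1) = true ∧
      fixB γ (c.p g.1) = fixB γ (D.simple g.1) := by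
  simp only [nodeOK, Bool.and_eq_true, Nat.beq_eq] at h
  have h1 : g.1 < D.rank := by rw [← hV.rank_eq]; simpa using h.1.1.1
  have h2 : g.2 < D.rank := by rw [← hV.rank_eq]; simpa using h.1.1.2
  rw [← hV.p_eq h1, ← hV.p_eq h2] at h
  exact ⟨h1, h2, h.1.2, h.2, by rw [hV.p_eq h1]⟩

omit [Finite F] in
theorem nG_conj {i : ℕ} (hi : i < D.rank) {r : ℕ} (hr : r < D.nroots) (t : F) :
    nG D F (D.simple i) 1 * xg D F r t * (nG D F (D.simple i) 1)⁻¹ = xg D F (c.w i r) t := by
  have h1 : (c.η i r : F) = 1 := by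
    rcases hV.eta_eq hi hr with h | h <;> rw [h] <;> simp [CharTwo.neg_eq]
  have h : nG D F (D.simple i) 1 * xg D F r t = xg D F (c.w i r) t * nG D F (D.simple i) 1 := by
    have hD := good' hV
    refine Units.ext ?_
    rw [Units.val_mul, Units.val_mul, hD.coe_nG, hD.coe_xg, hD.coe_xg, hV.nMat_mul_x hi hr, h1, one_mul]
  rw [h, mul_inv_cancel_right]

omit [Finite F] in
/-- the fixed Weyl elements -/
theorem word_conj {rts : List ℕ} (hR : rtsOK c γ rts = true) : ∀ {w : List (ℕ × ℕ)},
    (∀ g ∈ w, nodeOK c γ rts g = true) → ∃ h ∈ Tw s rts, ∀ a < D.nroots,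
      wImg c γ w a < D.nroots ∧ ∀ t : F, h * xg D F a t * h⁻¹ = xg D F (wImg c γ w a) t := by
  intro w
  induction w with
  | nil => intro _; exact ⟨1, one_mem _, fun a ha => ⟨ha, fun t => by simp [wImg]⟩⟩
  | cons g w ih =>
    intro hw
    obtain ⟨h, hh, e⟩ := ih fun x hx => hw x (List.mem_cons_of_mem _ hx)
    obtain ⟨h1, h2, hγ, horb, hp⟩ := nodeOK_spec hV (hw g List.mem_cons_self)
    have hn := nT_mem hV s hR horb (d := (1 : F)) fun _ => map_one _
    have hstep : ∀ a < D.nroots, cond (fixB γ (c.p g.1)) (c.w g.1 a) (c.w g.1 (c.w g.2 a)) < D.nroots ∧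
        ∀ t : F, nT s (D.simple g.1) 1 * xg D F a t * (nT s (D.simple g.1) 1)⁻¹ =
          xg D F (cond (fixB γ (c.p g.1)) (c.w g.1 a) (c.w g.1 (c.w g.2 a))) t := by
      intro a ha
      rw [hp]
      cases hf : fixB γ (D.simple g.1) with
      | true => exact ⟨hV.w_lt h1 ha, fun t => by simp only [nT, hf, cond_true]; exact nG_conj hV h1 ha t⟩
      | false =>
        refine ⟨hV.w_lt h1 (hV.w_lt h2 ha), fun t => ?_⟩
        simp only [nT, hf, cond_false, map_one, hγ]
        calc _ = nG D F (D.simple g.1) 1 * (nG D F (D.simple g.2) 1 * xg D F a t *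
              (nG D F (D.simple g.2) 1)⁻¹) * (nG D F (D.simple g.1) 1)⁻¹ := by group
          _ = _ := by rw [nG_conj hV h2 ha, nG_conj hV h1 (hV.w_lt h2 ha)]
    refine ⟨nT s (D.simple g.1) 1 * h, mul_mem hn hh, fun a ha => ?_⟩
    obtain ⟨hlt, he⟩ := e a ha
    obtain ⟨hlt', he'⟩ := hstep _ hlt
    refine ⟨hlt', fun t => ?_⟩
    calc _ = nT s (D.simple g.1) 1 * (h * xg D F a t * h⁻¹) * (nT s (D.simple g.1) 1)⁻¹ := by group
      _ = _ := by rw [he, he']; rfl

omit [Finite F] in
/-- conjugating a product of commuting root elements -/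
theorem conj_terms {A : List ℕ} (hA : ∀ a ∈ A, a < D.nroots) {E : List (ℕ × Bool)}
    (hE : ∀ e ∈ E, e.1 < D.nroots) (h : termsOK c A E = true) (t : F) :
    elS D s.φ E t * elT D A (1 : F) * (elS D s.φ E t)⁻¹ =
      elT D A 1 * ((termsL c A E).map fun x => xg D F x.1 (cond x.2 (s.φ t) t)).prod := by
  simp only [termsOK, Bool.and_eq_true, allL_iff, hV.nroots_eq] at h
  obtain ⟨⟨⟨hadj, hTlt⟩, hTE⟩, hC⟩ := h
  set T := termsL c A E with hT
  have hT' : ∀ x ∈ T, x.1 < D.nroots := fun x hx => by simpa using hTlt x hx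
  have hlt : ∀ x ∈ A ++ T.map Prod.fst, x < D.nroots := fun x hx => by
    rcases List.mem_append.1 hx with hx | hx
    · exact hA x hx
    · obtain ⟨y, hy, rfl⟩ := List.mem_map.1 hx; exact hT' y hy
  have hc := commute_of_commL (F := F) hV hlt hC
  set f : ℕ × Bool → GL D.Idx F := fun x => xg D F x.1 (cond x.2 (s.φ t) t) with hf
  have one : ∀ a ∈ A, ∀ M : List (ℕ × Bool), (∀ e ∈ M, e ∈ E) →
      elS D s.φ M t * xg D F a 1 * (elS D s.φ M t)⁻¹ =
        xg D F a 1 * ((M.flatMap fun e => (nxt c e.1 a).map fun k => (k, e.2)).map f).prod := by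
    intro a ha M
    induction M with
    | nil => intro _; simp [elS]
    | cons e M ih =>
      intro hM
      have he := hE e (hM e List.mem_cons_self)
      have e1 : elS D s.φ (e :: M) t = f e * elS D s.φ M t := by simp [elS, hf]
      have hsub : ∀ x ∈ M, x ∈ E := fun x hx => hM x (List.mem_cons_of_mem _ hx)
      have hfix : Commute (f e) ((M.flatMap fun e => (nxt c e.1 a).map fun k => (k, e.2)).map f).prod :=
        Commute.list_prod_right _ _ fun y hy => by
          obtain ⟨k, hk, rfl⟩ := List.mem_map.1 hy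
          obtain ⟨r, hr, hk'⟩ := List.mem_flatMap.1 hk
          have hkT : k ∈ T := List.mem_flatMap.2 ⟨a, ha, List.mem_flatMap.2 ⟨r, hsub r hr, hk'⟩⟩
          exact commute_of_commB hV he (hT' k hkT) (hTE k hkT e (hM e List.mem_cons_self)) _ _
      calc _ = f e * (elS D s.φ M t * xg D F a 1 * (elS D s.φ M t)⁻¹) * (f e)⁻¹ := by rw [e1]; group
        _ = (f e * xg D F a 1 * f e) * ((M.flatMap fun e => (nxt c e.1 a).map fun k => (k, e.2)).map f).prod := by
            rw [ih hsub, xg_inv_self hV, mul_assoc (f e), mul_assoc (xg D F a 1), ← hfix.eq]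
            simp only [mul_assoc]
        _ = _ := by
            simp only [hf]
            rw [xg_conj hV he (hA a ha) (hadj a ha e (hM e List.mem_cons_self)), List.flatMap_cons,
              List.map_append, List.prod_append, List.map_map, mul_one, mul_assoc]
            rfl
  have all : ∀ B : List ℕ, (∀ a ∈ B, a ∈ A) → elS D s.φ E t * elT D B (1 : F) * (elS D s.φ E t)⁻¹ =
      elT D B 1 * ((termsL c B E).map f).prod := by
    intro B
    induction B with
    | nil => intro _; simp [elT, termsL]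
    | cons a B ih =>
      intro hB
      have hsub : ∀ x ∈ B, x ∈ A := fun x hx => hB x (List.mem_cons_of_mem _ hx)
      have e1 : elT D (a :: B) (1 : F) = xg D F a 1 * elT D B 1 := by simp [elT]
      have e2 : ((termsL c (a :: B) E).map f).prod =
          ((E.flatMap fun e => (nxt c e.1 a).map fun k => (k, e.2)).map f).prod * ((termsL c B E).map f).prod := by
        simp [termsL]
      have hswap : Commute ((E.flatMap fun e => (nxt c e.1 a).map fun k => (k, e.2)).map f).prod
          (elT D B (1 : F)) :=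
        Commute.list_prod_left _ _ fun y hy => Commute.list_prod_right _ _ fun z hz => by
          obtain ⟨k, hk, rfl⟩ := List.mem_map.1 hy
          obtain ⟨b, hb, rfl⟩ := List.mem_map.1 hz
          have hkT : k ∈ T := List.mem_flatMap.2 ⟨a, hB a List.mem_cons_self, hk⟩
          exact hc k.1 (List.mem_append_right _ (List.mem_map_of_mem hkT)) b
            (List.mem_append_left _ (hsub b hb)) _ 1
      rw [e1, ← conj_mul, one a (hB a List.mem_cons_self) E (fun _ h => h), ih hsub, e2]
      simp only [mul_assoc]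
      rw [← mul_assoc (List.prod _), hswap.eq, mul_assoc]
  exact all A fun _ h => h

end

end Cfsg.Agent.TwistInvol
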