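/-
Consequences of the standing conditions: coordinates are unique, equivariant, and squares give equations.
-/
import Cfsg.Agent.Lib.TwistInvol.Act
import Cfsg.Agent.Lib.Chev.UnipotentInter

set_option autoImplicit false

namespace Cfsg.Agent.TwistInvol

open Cfsg.Lie Cfsg.Agent.Chev Cfsg.Agent.ChevInvol

variable {γ : ℕ → ℕ} {c : Cert} {F : Type*} [Field F] {D : ChevalleyDatum}

/-- `τ` on the roots occurring oddly often -/
def ind (l : List ℕ) (τ : F) (j : ℕ) : F := if oddIn j l = true then τ else 0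

theorem ind_sum [CharP F 2] (l : List ℕ) (τ : F) (j : ℕ) :
    (l.map fun k => if j = k then τ else 0).sum = ind l τ j := by
  induction l with
  | nil => simp [ind, oddIn]
  | cons b l ih =>
    rw [List.map_cons, List.sum_cons, ih]
    simp only [ind, oddIn]
    by_cases h : j = b
    · subst h
      rcases Bool.eq_false_or_eq_true (oddIn j l) with h' | h' <;> simp [h', CharTwo.add_self_eq_zero]
    · have : Nat.beq j b = false := by
        cases e : Nat.beq j b
        · rfl
        · exact absurd (Nat.eq_of_beq_eq_true e) h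
      rcases Bool.eq_false_or_eq_true (oddIn j l) with h' | h' <;> simp [h, h', this]

theorem ind_cons [CharP F 2] (b : ℕ) (l : List ℕ) (τ : F) (j : ℕ) :
    ind (b :: l) τ j = ind [b] τ j + ind l τ j := by
  simp only [ind, oddIn]
  rcases Bool.eq_false_or_eq_true (Nat.beq j b) with h | h <;>
    rcases Bool.eq_false_or_eq_true (oddIn j l) with h' | h' <;> simp [h, h', CharTwo.add_self_eq_zero]

theorem prod_mask {M : Type*} [Monoid M] (p : ℕ → Bool) (f : ℕ → M) : ∀ L : List ℕ,
    (∀ j ∈ L, p j = false → f j = 1) → (L.map f).prod = ((L.filter p).map f).prod := by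
  intro L h0
  induction L with
  | nil => rfl
  | cons a L ih =>
    have ih' := ih fun j hj => h0 j (List.mem_cons_of_mem _ hj)
    cases h : p a with
    | true => simp [h, ih']
    | false => simp [h, ih', h0 a List.mem_cons_self h]

theorem oddLen_sum [CharP F 2] {α : Type*} (f : α → Bool) (a b : F) : ∀ T : List α,
    (T.map fun x => cond (f x) b a).sum =
      (if oddLen (T.filter fun x => !f x) = true then a else 0) +
        (if oddLen (T.filter f) = true then b else 0) := by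
  intro T
  induction T with
  | nil => simp [oddLen]
  | cons x T ih =>
    rw [List.map_cons, List.sum_cons, ih]
    cases h : f x
    · simp only [List.filter_cons, h, Bool.not_false, if_true, Bool.false_eq_true, if_false, cond_false, oddLen]
      rcases Bool.eq_false_or_eq_true (oddLen (T.filter fun x => !f x)) with h' | h' <;> simp [h', CharTwo.add_self_eq_zero, ← add_assoc]
    · simp only [List.filter_cons, h, Bool.not_true, if_true, Bool.false_eq_true, if_false, cond_true, oddLen]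
      rw [add_left_comm]
      rcases Bool.eq_false_or_eq_true (oddLen (T.filter f)) with h' | h' <;> simp [h', CharTwo.add_self_eq_zero]

/-- What the checked conditions on a context say. -/
structure Std (c : Cert) (s : Tws D F γ) (X : Ctx) : Prop where
  rts : rtsOK c γ X.rts = true
  R_lt : ∀ r ∈ X.R, r < D.nroots
  R_comm : commL c X.R = true
  R_perm : (X.R.map γ).Perm X.R
  QZ_pos : ∀ b ∈ X.Q ++ X.Zc, D.nroots / 2 ≤ b ∧ b < D.nroots
  QZ_eq : X.Q ++ X.Zc =
    (List.range' (D.nroots / 2) (D.nroots - D.nroots / 2)).filter fun j => memB j (X.Q ++ X.Zc)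
  abel : abelB c X.Q X.Zc = true
  Q_γ : ∀ b ∈ X.Q, γ b ∈ X.Q
  Z_fix : ∀ z ∈ X.Zc, γ z = z
  cl : ∀ b ∈ X.Q, cl2OK c X.Q X.Zc X.ER b = true
  Z_R : ∀ z ∈ X.Zc, ∀ r ∈ X.R, commB c r z = true

theorem std_of_ctxOK (hV : Valid D c) (s : Tws D F γ) {X : Ctx} (h : ctxOK c γ X = true) : Std c s X := by
  simp only [ctxOK, Bool.and_eq_true, allL_iff, memB_iff, List.isPerm_iff, fixB_iff, hV.nroots_eq] at h
  obtain ⟨⟨⟨⟨⟨⟨⟨⟨⟨⟨h1, h2⟩, h3⟩, h4⟩, h5⟩, h6⟩, h7⟩, h8⟩, h9⟩, h10⟩, h11⟩ := h
  exact ⟨h1, fun r hr => by simpa using h2 r hr, h3, h4, fun b hb => by simpa using h5 b hb,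
    eq_of_beqL (fun x y h => Nat.eq_of_beq_eq_true h) h6, h7, h8, h9, h10, h11⟩

section

variable (hV : Valid D c) [CharP F 2] {s : Tws D F γ} {X : Ctx} (hS : Std c s X)
include hV hS

omit hV [CharP F 2] in
theorem Q_lt : ∀ b ∈ X.Q, b < D.nroots := fun b hb => (hS.QZ_pos b (List.mem_append_left _ hb)).2

omit hV [CharP F 2] in
theorem Z_lt : ∀ b ∈ X.Zc, b < D.nroots := fun b hb => (hS.QZ_pos b (List.mem_append_right _ hb)).2

omit hV [CharP F 2] in
theorem QZ_nodup : (X.Q ++ X.Zc).Nodup := by rw [hS.QZ_eq]; exact (List.nodup_range' ..).filter _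

omit hV [CharP F 2] in
theorem Q_nodup : X.Q.Nodup := (List.nodup_append.1 (QZ_nodup hS)).1

omit hV [CharP F 2] in
theorem Z_nodup : X.Zc.Nodup := (List.nodup_append.1 (QZ_nodup hS)).2.1

omit hV [CharP F 2] in
theorem QZ_disj {j : ℕ} (h : j ∈ X.Q) (h' : j ∈ X.Zc) : False :=
  (List.nodup_append.1 (QZ_nodup hS)).2.2 j h j h' rfl

theorem cenQ (v : ℕ → F) {y : GL D.Idx F} (hy : y ∈ Hgrp D F X.Zc) : Commute (qel D X.Q v) y :=
  qel_cen hV (Q_lt hS) (Z_lt hS) hS.abel (fun _ h => List.mem_append_left _ h) v hy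

theorem Zc_comm {a : ℕ} (ha : a ∈ X.Zc) {b : ℕ} (hb : b ∈ X.Zc) (t u : F) :
    Commute (xg D F a t) (xg D F b u) :=
  abelB_cen hV (Q_lt hS) (Z_lt hS) hS.abel (List.mem_append_right _ ha) t (xg_mem_Hgrp hb u)

theorem cenR {y : GL D.Idx F} (hy : y ∈ Hgrp D F X.Zc) : Commute (elT D X.R (1 : F)) y :=
  Commute.list_prod_left _ _ fun x hx => by
    obtain ⟨r, hr, rfl⟩ := List.mem_map.1 hx
    exact comm_central hV (hS.R_lt r hr) (Z_lt hS) (fun z hz => hS.Z_R z hz r hr) 1 hy

theorem zc_coords {z : GL D.Idx F} (hz : z ∈ Hgrp D F X.Zc) : ∃ u : ℕ → F, z = qel D X.Zc u := by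
  have hC : ∀ a ∈ X.Zc, ∀ b ∈ X.Zc, ∀ t u : F, Commute (xg D F a t) (xg D F b u) :=
    fun a ha b hb t u => Zc_comm hV hS ha hb t u
  induction hz using Subgroup.closure_induction with
  | mem x hx =>
    obtain ⟨k, hk, t, rfl⟩ := hx
    exact ⟨_, (ChevInvol.qel_single hV (Z_nodup hS) hk t).symm⟩
  | one => exact ⟨fun _ => 0, (ChevInvol.qel_zero hV _).symm⟩
  | mul x y _ _ ihx ihy =>
    obtain ⟨u, rfl⟩ := ihx; obtain ⟨w, rfl⟩ := ihy
    exact ⟨_, ChevInvol.qel_add hV (Z_lt hS) hC u w⟩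
  | inv x _ ih =>
    obtain ⟨u, rfl⟩ := ih
    refine ⟨u, inv_eq_of_mul_eq_one_right ?_⟩
    rw [ChevInvol.qel_add hV (Z_lt hS) hC]
    exact ChevInvol.qel_congr_zero hV fun j _ => CharTwo.add_self_eq_zero _

theorem zc_sq {z : GL D.Idx F} (hz : z ∈ Hgrp D F X.Zc) : z * z = 1 := by
  obtain ⟨u, rfl⟩ := zc_coords hV hS hz
  rw [ChevInvol.qel_add hV (Z_lt hS) fun a ha b hb t u => Zc_comm hV hS ha hb t u]
  exact ChevInvol.qel_congr_zero hV fun j _ => CharTwo.add_self_eq_zero _

theorem eqv_mul {a b : GL D.Idx F} {v w : ℕ → F} (h₁ : Eqv D F X.Zc a (qel D X.Q v))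
    (h₂ : Eqv D F X.Zc b (qel D X.Q w)) : Eqv D F X.Zc (a * b) (qel D X.Q fun j => v j + w j) := by
  obtain ⟨z₁, hz₁, rfl⟩ := h₁
  obtain ⟨z₂, hz₂, rfl⟩ := h₂
  obtain ⟨z, hz, e⟩ := qel_add hV (Q_lt hS) (Z_lt hS) hS.abel v w
  refine ⟨z * (z₁ * z₂), mul_mem hz (mul_mem hz₁ hz₂), ?_⟩
  calc _ = qel D X.Q v * (z₁ * qel D X.Q w) * z₂ := by group
    _ = (qel D X.Q v * qel D X.Q w) * (z₁ * z₂) := by rw [← (cenQ hV hS w hz₁).eq]; group
    _ = _ := by rw [e]; group

theorem elS_ER (t : F) (φ : F ≃+* F) : elS D φ X.ER t = elT D X.R t := by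
  simp [elS, elT, Ctx.ER, Function.comp_def]

theorem R_inv : (elT D X.R (1 : F))⁻¹ = elT D X.R 1 := elT_inv hV hS.R_lt hS.R_comm 1

theorem eqv_single {k : ℕ} (hk : k ∈ X.Q) (τ : F) :
    Eqv D F X.Zc (xg D F k τ) (qel D X.Q (ind [k] τ)) := by
  refine ⟨1, one_mem _, ?_⟩
  rw [mul_one, ← TwistInvol.qel_single hV (Q_nodup hS) hk τ]
  congr 1
  funext j
  rw [← ind_sum]
  simp

theorem eqv_conjR {k : ℕ} (hk : k ∈ X.Q) (τ : F) :
    Eqv D F X.Zc (elT D X.R (1 : F) * xg D F k τ * elT D X.R 1)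
      (qel D X.Q (ind ((cl2 c X.Zc X.ER k).map Prod.fst) τ)) := by
  have hE : ∀ e ∈ X.ER, e.1 < D.nroots := fun e he => by
    obtain ⟨r, hr, rfl⟩ := List.mem_map.1 he; exact hS.R_lt r hr
  obtain ⟨z, hz, e⟩ := conj_xg2 hV (Q_lt hS) (Z_lt hS) hS.abel s.φ hE (hS.cl k hk) 1 τ
  rw [elS_ER hV hS, R_inv hV hS] at e
  obtain ⟨z', hz', e'⟩ := prod_eqv_qel hV (Q_lt hS) (Z_lt hS) hS.abel (Q_nodup hS)
    ((cl2 c X.Zc X.ER k).map Prod.fst) id (fun _ => τ) fun x hx => by
      obtain ⟨y, hy, rfl⟩ := List.mem_map.1 hx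
      exact cl2OK_mem hV (Q_lt hS) (Z_lt hS) hS.abel (hS.cl k hk) y hy
  refine ⟨z' * z, mul_mem hz' hz, ?_⟩
  simp only [List.map_map, Function.comp_def, id_eq] at e'
  rw [e]
  simp only [monT, map_one, one_pow, mul_one]
  rw [e', mul_assoc]
  congr 2
  funext j
  rw [← ind_sum, List.map_map]
  rfl

variable {tabs simps : List ℕ} (hf : BNSetup.Facts D tabs simps)

include hf in
theorem inj_full {v w : ℕ → F} (h : qel D (X.Q ++ X.Zc) v = qel D (X.Q ++ X.Zc) w) :
    ∀ j ∈ X.Q ++ X.Zc, v j = w j := by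
  have hD : Good D := good' hV
  have pf : ∀ (t : ℕ → F) (m k : ℕ),
      BNSetup.prodFrom hD F t k m = ((List.range' k m).map fun j => xg D F j (t j)).prod := by
    intro t m
    induction m with
    | zero => intro k; rfl
    | succ m ih =>
      intro k
      rw [List.range'_succ, List.map_cons, List.prod_cons, BNSetup.prodFrom, ih,
        hD.eq_xg (BNSetup.coe_xe hD k (t k))]
  have key : ∀ z : ℕ → F, qel D (X.Q ++ X.Zc) z =
      BNSetup.prodFrom hD F (fun j => if memB j (X.Q ++ X.Zc) = true then z j else 0) (D.nroots / 2)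
        (D.nroots - D.nroots / 2) := by
    intro z
    rw [pf, prod_mask (fun j => memB j (X.Q ++ X.Zc)) _ _ fun j _ hj => by simp [hj, hD.xg_zero], ← hS.QZ_eq]
    exact congrArg List.prod (List.map_congr_left fun j hj => by simp [memB_iff.2 hj])
  rw [key, key] at h
  intro j hj
  have := BNSetup.prodFrom_inj hD hf (by omega) le_rfl h j (hS.QZ_pos j hj).1 (hS.QZ_pos j hj).2
  simpa [memB_iff.2 hj] using this

include hf in
theorem inj_mod {v w : ℕ → F} (h : Eqv D F X.Zc (qel D X.Q v) (qel D X.Q w)) : ∀ j ∈ X.Q, v j = w j := by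
  obtain ⟨z, hz, e⟩ := h
  obtain ⟨u, rfl⟩ := zc_coords hV hS hz
  classical
  have key : ∀ (a b : ℕ → F), qel D X.Q a * qel D X.Zc b =
      qel D (X.Q ++ X.Zc) fun j => if j ∈ X.Q then a j else b j := by
    intro a b
    simp only [qel, List.map_append, List.prod_append]
    congr 1 <;> refine congrArg List.prod (List.map_congr_left fun j hj => ?_)
    · rw [if_pos hj]
    · rw [if_neg fun h => QZ_disj hS h hj]
  have h0 : qel D X.Q v * qel D X.Zc (fun _ => 0) = qel D X.Q w * qel D X.Zc u := by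
    rw [ChevInvol.qel_zero hV, mul_one, e]
  rw [key, key] at h0
  intro j hj
  simpa [hj] using inj_full hV hS hf h0 j (List.mem_append_left _ hj)

omit hV in
theorem Q_γ_perm : (X.Q.map γ).Perm X.Q := by
  have hn : (X.Q.map γ).Nodup := by
    refine (Q_nodup hS).map_on fun a ha b hb e => ?_
    have := congrArg γ e
    rwa [s.γ_inv a (Q_lt hS a ha), s.γ_inv b (Q_lt hS b hb)] at this
  refine (List.subperm_of_subset hn fun x hx => ?_).perm_of_length_le (by simp)
  obtain ⟨b, hb, rfl⟩ := List.mem_map.1 hx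
  exact hS.Q_γ b hb

theorem σ_R : s.σ (elT D X.R (1 : F)) = elT D X.R 1 := by
  rw [elT, σ_prod s hS.R_lt]
  simp only [map_one]
  rw [show (X.R.map fun r => xg D F (γ r) (1 : F)) = (X.R.map γ).map fun r => xg D F r (1 : F) by
    rw [List.map_map]; rfl]
  refine (hS.R_perm.map _).prod_eq' (List.pairwise_of_forall_mem_list fun a ha b hb => ?_)
  obtain ⟨x, hx, rfl⟩ := List.mem_map.1 ha
  obtain ⟨y, hy, rfl⟩ := List.mem_map.1 hb
  exact commute_of_commL hV hS.R_lt hS.R_comm x (hS.R_perm.mem_iff.1 hx) y (hS.R_perm.mem_iff.1 hy) 1 1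

include hf in
/-- fixed elements have equivariant coordinates -/
theorem equivariant {v : ℕ → F} {z : GL D.Idx F} (hz : z ∈ Hgrp D F X.Zc)
    (h : s.σ (qel D X.Q v * z * elT D X.R 1) = qel D X.Q v * z * elT D X.R 1) :
    ∀ j ∈ X.Q, v (γ j) = s.φ (v j) := by
  rw [map_mul, map_mul, σ_R hV hS, mul_left_inj] at h
  have hz' : s.σ z ∈ Hgrp D F X.Zc :=
    σ_Hgrp s (fun r hr => ⟨Z_lt hS r hr, by rw [hS.Z_fix r hr]; exact hr⟩) hz
  obtain ⟨z₁, hz₁, e⟩ := prod_eqv_qel hV (Q_lt hS) (Z_lt hS) hS.abel (Q_nodup hS) X.Q γ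
    (fun b => s.φ (v b)) hS.Q_γ
  have hw : ∀ j ∈ X.Q, (X.Q.map fun b => if j = γ b then s.φ (v b) else 0).sum = s.φ (v (γ j)) := by
    intro j hj
    rw [show (X.Q.map fun b => if j = γ b then s.φ (v b) else 0) =
        (X.Q.map fun b => if b = γ j then s.φ (v b) else 0) from List.map_congr_left fun b hb => by
      by_cases hh : j = γ b
      · rw [if_pos hh, if_pos (by rw [hh, s.γ_inv b (Q_lt hS b hb)])]
      · rw [if_neg hh, if_neg fun e => hh (by rw [e, s.γ_inv j (Q_lt hS j hj)])]]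
    have hone : ∀ L : List ℕ, L.Nodup → γ j ∈ L →
        (L.map fun b => if b = γ j then s.φ (v b) else 0).sum = s.φ (v (γ j)) := by
      intro L
      induction L with
      | nil => intro _ h; simp at h
      | cons a L ih =>
        intro hn hm
        rw [List.nodup_cons] at hn
        rw [List.map_cons, List.sum_cons]
        rcases List.mem_cons.1 hm with e | e
        · rw [if_pos e.symm, ← e, List.sum_eq_zero, add_zero]
          intro x hx
          obtain ⟨b, hb, rfl⟩ := List.mem_map.1 hx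
          rw [if_neg fun e' => hn.1 (by rw [← e, ← e']; exact hb)]
        · rw [if_neg fun e' => hn.1 (by rw [e']; exact e), zero_add, ih hn.2 e]
    exact hone X.Q (Q_nodup hS) (hS.Q_γ j hj)
  have hev : Eqv D F X.Zc (qel D X.Q v) (qel D X.Q fun j =>
      (X.Q.map fun b => if j = γ b then s.φ (v b) else 0).sum) := by
    refine ⟨z₁ * s.σ z * z⁻¹, mul_mem (mul_mem hz₁ hz') (inv_mem hz), ?_⟩
    have e2 : s.σ (qel D X.Q v) = (X.Q.map fun b => xg D F (γ b) (s.φ (v b))).prod := σ_prod s (Q_lt hS) v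
    rw [← mul_assoc, ← mul_assoc, ← e, ← e2]
    exact (eq_mul_inv_iff_mul_eq.2 h.symm)
  intro j hj
  have := inj_mod hV hS hf hev (γ j) (hS.Q_γ j hj)
  rwa [hw (γ j) (hS.Q_γ j hj), s.γ_inv j (Q_lt hS j hj)] at this

theorem pairs_conj {a : ℕ} (ha : a ∈ X.Q) (t : F) (v : ℕ → F) : ∀ L : List ℕ, (∀ b ∈ L, b ∈ X.Q) →
    xg D F a t * qel D L v * xg D F a t =
      qel D L v * ((L.flatMap fun b => (nxt c a b).map fun k => (b, k)).map fun x =>
        xg D F x.2 (t * v x.1)).prod := by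
  have hA := hS.abel
  simp only [abelB, Bool.and_eq_true, allL_iff, memB_iff] at hA
  intro L
  induction L with
  | nil => intro _; simp [qel, xg_sq hV]
  | cons b L ih =>
    intro hL
    have hb := hL b List.mem_cons_self
    have hL' : ∀ x ∈ L, x ∈ X.Q := fun x hx => hL x (List.mem_cons_of_mem _ hx)
    obtain ⟨h1, h2⟩ := hA.1 a ha b hb
    have hk : ((nxt c a b).map fun k => xg D F k (t * v b)).prod ∈ Hgrp D F X.Zc :=
      Subgroup.list_prod_mem _ fun x hx => by
        obtain ⟨k, hk, rfl⟩ := List.mem_map.1 hx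
        exact xg_mem_Hgrp (h2 k hk) _
    have hc : Commute (qel D L v) ((nxt c a b).map fun k => xg D F k (t * v b)).prod :=
      qel_cen hV (Q_lt hS) (Z_lt hS) hS.abel (fun x hx => List.mem_append_left _ (hL' x hx)) v hk
    have e0 : qel D (b :: L) v = xg D F b (v b) * qel D L v := by simp [qel]
    calc _ = (xg D F a t * xg D F b (v b) * xg D F a t) * (xg D F a t * qel D L v * xg D F a t) := by
          rw [e0]; simp only [mul_assoc]
          rw [← mul_assoc (xg D F a t) (xg D F a t), xg_sq hV, one_mul]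
      _ = _ := by
          rw [xg_conj hV (Q_lt hS a ha) (Q_lt hS b hb) h1, ih hL', e0, List.flatMap_cons, List.map_append,
            List.prod_append, List.map_map]
          simp only [Function.comp_def, mul_assoc]
          rw [← mul_assoc (List.prod _) (qel D L v), ← hc.eq, mul_assoc]

theorem qel_sq (v : ℕ → F) : ∀ L : List ℕ, (∀ b ∈ L, b ∈ X.Q) → qel D L v * qel D L v =
    ((qPairs c L).map fun x => xg D F x.2.2 (v x.1 * v x.2.1)).prod := by
  have hA := hS.abel
  simp only [abelB, Bool.and_eq_true, allL_iff, memB_iff] at hA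
  intro L
  induction L with
  | nil => intro _; simp [qel, qPairs]
  | cons a L ih =>
    intro hL
    have hL' : ∀ x ∈ L, x ∈ X.Q := fun x hx => hL x (List.mem_cons_of_mem _ hx)
    have ha := hL a List.mem_cons_self
    set P := ((L.flatMap fun b => (nxt c a b).map fun k => (b, k)).map fun x : ℕ × ℕ =>
      xg D F x.2 (v a * v x.1)).prod with hP
    have hPz : P ∈ Hgrp D F X.Zc := Subgroup.list_prod_mem _ fun y hy => by
      obtain ⟨w, hw, rfl⟩ := List.mem_map.1 hy
      obtain ⟨b, hb, hw⟩ := List.mem_flatMap.1 hw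
      obtain ⟨k, hk, rfl⟩ := List.mem_map.1 hw
      exact xg_mem_Hgrp ((hA.1 a ha b (hL' b hb)).2 k hk) _
    have hc : Commute (qel D L v) P :=
      qel_cen hV (Q_lt hS) (Z_lt hS) hS.abel (fun x hx => List.mem_append_left _ (hL' x hx)) v hPz
    have e0 : qel D (a :: L) v = xg D F a (v a) * qel D L v := by simp [qel]
    have hPz' : qel D L v * qel D L v ∈ Hgrp D F X.Zc := by
      rw [ih hL']
      refine Subgroup.list_prod_mem _ fun y hy => ?_
      obtain ⟨w, hw, rfl⟩ := List.mem_map.1 hy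
      refine xg_mem_Hgrp ?_ _
      have : ∀ M : List ℕ, (∀ b ∈ M, b ∈ X.Q) → ∀ w ∈ qPairs c M, w.2.2 ∈ X.Zc := by
        intro M
        induction M with
        | nil => intro _ w hw; simp [qPairs] at hw
        | cons x M ihM =>
          intro hM w hw
          rcases List.mem_append.1 hw with hw | hw
          · obtain ⟨b, hb, hw⟩ := List.mem_flatMap.1 hw
            obtain ⟨k, hk, rfl⟩ := List.mem_map.1 hw
            exact (hA.1 x (hM x List.mem_cons_self) b (hM b (List.mem_cons_of_mem _ hb))).2 k hk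
          · exact ihM (fun b hb => hM b (List.mem_cons_of_mem _ hb)) w hw
      exact this L hL' w hw
    calc qel D (a :: L) v * qel D (a :: L) v = (xg D F a (v a) * qel D L v * xg D F a (v a)) * qel D L v := by
          rw [e0]; group
      _ = qel D L v * P * qel D L v := by rw [pairs_conj hV hS ha (v a) v L hL']
      _ = P * (qel D L v * qel D L v) := by rw [hc.eq]; group
      _ = _ := by
          rw [ih hL', qPairs, List.map_append, List.prod_append, hP]
          simp [List.map_flatMap, List.map_map, Function.comp_def]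

end

end Cfsg.Agent.TwistInvol
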