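/-
Soundness of the decision tree.
-/
import Cfsg.Agent.Lib.TwistInvol.Mod

set_option autoImplicit false

namespace Cfsg.Agent.TwistInvol

open Cfsg.Lie Cfsg.Agent.Chev Cfsg.Agent.ChevInvol

variable {γ : ℕ → ℕ} {c : Cert} {F : Type*} [Field F] {D : ChevalleyDatum}

/-- reached a representative -/
def Concl (s : Tws D F γ) (X : Ctx) (g : GL D.Idx F) : Prop :=
  ∃ h ∈ Tw s X.rts, ∃ R' ∈ X.reps, h * g * h⁻¹ = elT D R' (1 : F)

theorem Concl.conj {s : Tws D F γ} {X : Ctx} {g : GL D.Idx F} {h : GL D.Idx F} (hh : h ∈ Tw s X.rts)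
    (H : Concl s X (h * g * h⁻¹)) : Concl s X g := by
  obtain ⟨k, hk, R', hR', e⟩ := H
  exact ⟨k * h, mul_mem hk hh, R', hR', by rw [← e]; group⟩

theorem sum_self [CharP F 2] {φ : F ≃+* F} {j : ℕ} (v : ℕ → F) (t : F) (Z : List ℕ) (hZ : ∀ z ∈ Z, v z = 0)
    (E : List (ℕ × ℕ × ℕ × ℕ)) (h : selfOK j E = true) :
    (E.map fun x => if j = x.2.1 then v x.1 * monT φ t x.2.2.1 x.2.2.2 else 0).sum =
      v j + ((srcs Z j E).map fun x => v x.1 * monT φ t x.2.1 x.2.2).sum := by
  have hs : ∀ E : List (ℕ × ℕ × ℕ × ℕ),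
      (E.map fun x => if j = x.2.1 then v x.1 * monT φ t x.2.2.1 x.2.2.2 else 0).sum =
      ((E.filter fun x => Nat.beq x.2.1 j && Nat.beq x.1 j).map fun x =>
        v x.1 * monT φ t x.2.2.1 x.2.2.2).sum +
      ((others Z j E).map fun x => v x.1 * monT φ t x.2.2.1 x.2.2.2).sum := by
    intro E
    induction E with
    | nil => simp [others]
    | cons x E ih =>
      rw [List.map_cons, List.sum_cons, ih]
      simp only [others] at ih ⊢
      by_cases h1 : j = x.2.1
      · have e1 : Nat.beq x.2.1 j = true := by rw [← h1]; exact Nat.beq_refl j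
        rw [if_pos h1]
        cases h2 : Nat.beq x.1 j with
        | true => simp [e1, h2, add_assoc]
        | false =>
          cases h3 : memB x.1 Z with
          | true => simp [e1, h2, h3, hZ x.1 (memB_iff.1 h3)]
          | false => simp [e1, h2, h3]; ring
      · have e1 : Nat.beq x.2.1 j = false := by
          cases e : Nat.beq x.2.1 j
          · rfl
          · exact absurd (Nat.eq_of_beq_eq_true e).symm h1
        simp [e1, h1]
  rw [hs, srcs, List.map_map]
  congr 1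
  unfold selfOK at h
  rcases hf : E.filter (fun x => Nat.beq x.2.1 j && Nat.beq x.1 j) with _ | ⟨⟨a, b, p, q⟩, _ | ⟨y, l⟩⟩ <;>
    rw [hf] at h <;> simp only [Bool.false_eq_true, Bool.and_eq_true, Nat.beq_eq] at h
  have hm : (a, b, p, q) ∈ E.filter (fun x => Nat.beq x.2.1 j && Nat.beq x.1 j) := by rw [hf]; simp
  simp only [List.mem_filter, Bool.and_eq_true, Nat.beq_eq] at hm
  obtain ⟨rfl, rfl⟩ := h
  rw [hf]
  simp [hm.2.2, monT]

theorem evenAll_prod {M α : Type*} [Group M] [BEq α] [LawfulBEq α] (f : α → M) : ∀ (n : ℕ) (l : List α),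
    l.length ≤ n → (∀ a, l.count a % 2 = 0) → (∀ a ∈ l, ∀ b ∈ l, Commute (f a) (f b)) →
    (∀ a ∈ l, f a * f a = 1) → (l.map f).prod = 1 := by
  intro n
  induction n with
  | zero => intro l hl _ _ _; rw [List.length_eq_zero_iff.1 (Nat.le_zero.1 hl)]; rfl
  | succ n ih =>
    intro l hl hev hc hsq
    rcases l with _ | ⟨a, l⟩
    · rfl
    have hmem : a ∈ l := by
      have := hev a
      rw [List.count_cons_self] at this
      exact List.count_pos_iff.1 (by omega)
    have hp := (List.perm_cons_erase hmem).cons a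
    have hsub : ∀ x ∈ l.erase a, x ∈ a :: l := fun x hx => List.mem_cons_of_mem _ (List.mem_of_mem_erase hx)
    have e : ((a :: l).map f).prod = ((a :: a :: l.erase a).map f).prod := by
      refine (hp.map f).prod_eq' (List.pairwise_of_forall_mem_list fun y hy z hz => ?_)
      obtain ⟨p, hp', rfl⟩ := List.mem_map.1 hy
      obtain ⟨q, hq, rfl⟩ := List.mem_map.1 hz
      exact hc p hp' q hq
    rw [e, List.map_cons, List.map_cons, List.prod_cons, List.prod_cons, ← mul_assoc,
      hsq a List.mem_cons_self, one_mul]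
    refine ih _ ?_ (fun x => ?_) (fun x hx y hy => hc x (hsub x hx) y (hsub y hy)) fun x hx => hsq x (hsub x hx)
    · rw [List.length_erase_of_mem hmem]; simp only [List.length_cons] at hl; omega
    · have h1 := hev x
      have h2 := hp.count_eq x
      rw [h2] at h1
      simp only [List.count_cons] at h1
      split at h1 <;> omega

theorem nrm_mul {F : Type*} [CommMonoid F] (v : ℕ → F) (a b : ℕ) :
    v (nrm a b).1 * v (nrm a b).2 = v a * v b := by
  unfold nrm
  cases Nat.blt a b <;> simp [mul_comm]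

section

variable (hV : Valid D c) [CharP F 2] [Finite F] {s : Tws D F γ} {X : Ctx} (hS : Std c s X)
  {tabs simps : List ℕ} (hf : BNSetup.Facts D tabs simps)
include hV hS

omit [Finite F] in
/-- the exact consequences of `g ^ 2 = 1` -/
theorem sq_spec {v : ℕ → F} {z : GL D.Idx F} (hz : z ∈ Hgrp D F X.Zc)
    (hinv : (qel D X.Q v * z * elT D X.R 1) * (qel D X.Q v * z * elT D X.R 1) = 1) :
    elT D X.R (1 : F) * qel D X.Q v * elT D X.R 1 = (qel D X.Q v)⁻¹ := by
  set S := elT D X.R (1 : F) with hSdef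
  set q := qel D X.Q v with hq
  have h1 : Commute S z := cenR hV hS hz
  have h2 : Commute q z := cenQ hV hS v hz
  refine eq_inv_of_mul_eq_one_right ?_
  have h3 : Commute (S * q * S) z := (h1.mul_left h2).mul_left h1
  calc q * (S * q * S) = q * (S * q * S) * (z * z) := by rw [zc_sq hV hS hz, mul_one]
    _ = q * ((S * q * S) * z) * z := by group
    _ = q * (z * (S * q * S)) * z := by rw [h3.eq]
    _ = q * z * S * q * (S * z) := by group
    _ = q * z * S * q * (z * S) := by rw [h1.eq]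
    _ = (q * z * S) * (q * z * S) := by group
    _ = 1 := hinv

omit [Finite F] in
include hf in
/-- the linear equations -/
theorem equations {v : ℕ → F} {z : GL D.Idx F} (hz : z ∈ Hgrp D F X.Zc)
    (hinv : (qel D X.Q v * z * elT D X.R 1) * (qel D X.Q v * z * elT D X.R 1) = 1)
    {Z : List ℕ} (hZ : ∀ a ∈ Z, v a = 0) {j : ℕ} {l : List ℕ} (h : eqnOK c X Z j l = true) :
    (l.map v).sum = 0 := by
  simp only [eqnOK, Bool.and_eq_true, memB_iff, List.isPerm_iff] at h
  obtain ⟨⟨hj, hs⟩, hl⟩ := h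
  have hE : ∀ e ∈ X.ER, e.1 < D.nroots := fun e he => by
    obtain ⟨r, hr, rfl⟩ := List.mem_map.1 he; exact hS.R_lt r hr
  obtain ⟨z', hz', e⟩ := conj_qel2 hV (Q_lt hS) (Z_lt hS) hS.abel s.φ (Q_nodup hS) hE hS.cl (1 : F) v
  rw [elS_ER hV hS, R_inv hV hS, sq_spec hV hS hz hinv] at e
  obtain ⟨z'', hz'', e'⟩ := qel_add hV (Q_lt hS) (Z_lt hS) hS.abel v v
  simp only [CharTwo.add_self_eq_zero, ChevInvol.qel_zero hV, one_mul] at e'
  have hv : (qel D X.Q v)⁻¹ = qel D X.Q v * z''⁻¹ := by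
    refine inv_eq_of_mul_eq_one_right ?_
    rw [← mul_assoc, e', mul_inv_cancel]
  rw [hv, mul_inv_eq_iff_eq_mul] at e
  have h3 := inj_mod hV hS hf ⟨z' * z'', mul_mem hz' hz'', e.trans (mul_assoc _ _ _)⟩ j hj
  rw [sum_self v 1 Z hZ _ hs, srcs, List.map_map] at h3
  have h4 := (hl.map v).sum_eq
  rw [List.map_map] at h4
  rw [← h4]
  simpa [monT, Function.comp_def] using h3

omit [Finite F] in
include hf in
/-- the quadratic equation -/
theorem quad {v : ℕ → F} {z : GL D.Idx F} (hz : z ∈ Hgrp D F X.Zc)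
    (hinv : (qel D X.Q v * z * elT D X.R 1) * (qel D X.Q v * z * elT D X.R 1) = 1)
    {Z : List ℕ} (hZ : ∀ a ∈ Z, v a = 0) {l : List (ℕ × ℕ)} (h : quadOK c X Z l = true) :
    (l.map fun x => v x.1 * v x.2).sum = 0 := by
  unfold quadOK at h
  rcases hzc : X.Zc with _ | ⟨θ, _ | ⟨θ', rest⟩⟩ <;> rw [hzc] at h <;> simp only [Bool.false_eq_true] at h
  simp only [Bool.and_eq_true, allL_iff, Nat.beq_eq, List.isPerm_iff] at h
  obtain ⟨⟨hcm, hθ⟩, hl⟩ := h
  set A := X.Q.filter fun j => !(memB j Z) with hA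
  have hA' : ∀ b ∈ A, b ∈ X.Q := fun b hb => (List.mem_filter.1 hb).1
  have hq : qel D X.Q v = qel D A v := prod_mask (fun j => !(memB j Z)) _ _ fun j _ hj => by
    simp only [Bool.not_eq_false', memB_iff] at hj
    rw [hZ j hj]; exact (good' hV).xg_zero j
  have hc : Commute (elT D X.R (1 : F)) (qel D A v) :=
    Commute.list_prod_left _ _ fun x hx => Commute.list_prod_right _ _ fun y hy => by
      obtain ⟨r, hr, rfl⟩ := List.mem_map.1 hx
      obtain ⟨b, hb, rfl⟩ := List.mem_map.1 hy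
      exact commute_of_commB hV (hS.R_lt r hr) (Q_lt hS b (hA' b hb)) (hcm b hb r hr) 1 _
  have h1 := sq_spec hV hS hz hinv
  rw [hq, hc.eq, mul_assoc, elT_sq hV hS.R_lt hS.R_comm, mul_one] at h1
  have h2 : qel D A v * qel D A v = 1 := by nth_rewrite 1 [h1]; exact inv_mul_cancel _
  rw [qel_sq hV hS v A hA'] at h2
  have hθlt : θ < D.nroots := Z_lt hS θ (by rw [hzc]; simp)
  have hsum : ∀ L : List (ℕ × ℕ × ℕ), (∀ x ∈ L, x.2.2 = θ) →
      (L.map fun x => xg D F x.2.2 (v x.1 * v x.2.1)).prod =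
        xg D F θ (L.map fun x => v x.1 * v x.2.1).sum := by
    intro L
    induction L with
    | nil => intro _; simp [(good' hV).xg_zero]
    | cons x L ih =>
      intro hL
      rw [List.map_cons, List.prod_cons, ih fun y hy => hL y (List.mem_cons_of_mem _ hy),
        hL x List.mem_cons_self, (good' hV).xg_add, List.map_cons, List.sum_cons]
  rw [hsum _ hθ] at h2
  classical
  set S := ((qPairs c A).map fun x => v x.1 * v x.2.1).sum with hSsum
  have hθm : θ ∈ X.Q ++ X.Zc := by rw [hzc]; simp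
  have h3 := inj_full hV hS hf (v := fun j => if j = θ then S else 0) (w := fun _ => 0) (by
    rw [ChevInvol.qel_zero hV, ChevInvol.qel_single hV (QZ_nodup hS) hθm, h2]) θ hθm
  rw [if_pos rfl] at h3
  have h4 := (hl.map fun x : ℕ × ℕ => v x.1 * v x.2).sum_eq
  rw [List.map_map] at h4
  rw [← h4, ← h3, hSsum]
  exact congrArg List.sum (List.map_congr_left fun x _ => nrm_mul v _ _)

omit [Finite F] in
/-- products over orbits are fixed -/
theorem σ_flat {os : List ℕ} (hos : ∀ r ∈ os, orbOK c γ X.rts r = true) {u : ℕ → F}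
    (hu : ∀ a ∈ os.flatMap (orbR γ), u (γ a) = s.φ (u a)) :
    s.σ ((os.flatMap (orbR γ)).map fun a => xg D F a (u a)).prod =
      ((os.flatMap (orbR γ)).map fun a => xg D F a (u a)).prod := by
  induction os with
  | nil => simp
  | cons o os ih =>
    obtain ⟨ho, hmem, -⟩ := orbOK_spec hV hS.rts (hos o List.mem_cons_self)
    rw [List.flatMap_cons, List.map_append, List.prod_append, map_mul,
      ih (fun r hr => hos r (List.mem_cons_of_mem _ hr))
        (fun a ha => hu a (by rw [List.flatMap_cons]; exact List.mem_append_right _ ha))]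
    congr 1
    have hoo : o ∈ (o :: os).flatMap (orbR γ) := by
      rw [List.flatMap_cons]; exact List.mem_append_left _ (mem_orbR.2 (Or.inl rfl))
    have hγ := hu o hoo
    obtain ⟨-, -, hc⟩ := rtsOK_spec hV hS.rts o hmem
    have e : ((orbR γ o).map fun a => xg D F a (u a)).prod = elS D s.φ (oelL γ o) (u o) := by
      unfold orbR oelL elS
      cases hfx : fixB γ o with
      | true => simp
      | false => simp [hγ]
    rw [e]
    exact σ_oel hV s ho hc fun h => by rw [← hγ, h]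

/-- scaling and moving a leaf -/
theorem shape_conj {L os : List ℕ} {w : List (ℕ × ℕ)} (h : shapeOK c γ X.rts X.reps L os w = true)
    (hL : ∀ a ∈ L, a < D.nroots) {u : ℕ → F} (hu : ∀ a ∈ L, u a ≠ 0 ∧ u (γ a) = s.φ (u a)) :
    (os.flatMap (orbR γ)).Perm L ∧
      (L.map fun a => xg D F a (u a)).prod = ((os.flatMap (orbR γ)).map fun a => xg D F a (u a)).prod ∧
      (∀ r ∈ os, orbOK c γ X.rts r = true) ∧
      ∃ h ∈ Tw s X.rts, (∀ z ∈ Hgrp D F X.Zc, h * z * h⁻¹ ∈ Hgrp D F X.Zc) ∧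
        h * (L.map fun a => xg D F a (u a)).prod * h⁻¹ = elT D (os.flatMap (orbR γ)) 1 ∧
        ∃ k ∈ Tw s X.rts, ∃ R' ∈ X.reps,
          k * elT D (os.flatMap (orbR γ)) (1 : F) * k⁻¹ = elT D R' 1 := by
  simp only [shapeOK, Bool.and_eq_true, allL_iff, List.isPerm_iff, List.any_eq_true, orthB, intBeq_iff] at h
  obtain ⟨⟨⟨⟨⟨⟨hos, hnd, hpair⟩, hcomm⟩, hperm⟩, hw⟩, hcI⟩, R', hR', hpI⟩ := h
  set Fl := os.flatMap (orbR γ) with hFl
  have hFlt : ∀ a ∈ Fl, a < D.nroots := fun a ha => hL a (hperm.mem_iff.1 ha)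
  have eP : (L.map fun a => xg D F a (u a)).prod = (Fl.map fun a => xg D F a (u a)).prod := by
    refine (hperm.symm.map _).prod_eq' (List.pairwise_of_forall_mem_list fun a ha b hb => ?_)
    obtain ⟨x, hx, rfl⟩ := List.mem_map.1 ha
    obtain ⟨y, hy, rfl⟩ := List.mem_map.1 hb
    exact commute_of_commL hV hL hcomm x hx y hy _ _
  obtain ⟨h, hh, hdiag, -, hone⟩ := scale hV s hS.rts hos (nodupB_iff hnd) (fun a ha b hb => by
    rw [hpair a ha b hb]
    by_cases hab : a = b
    · subst hab; simp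
    · have : Nat.beq a b = false := by
        cases e : Nat.beq a b
        · rfl
        · exact absurd (Nat.eq_of_beq_eq_true e) hab
      simp [this, hab]) u fun a ha => hu a (hperm.mem_iff.1 ha)
  refine ⟨hperm, eP, hos, h, hh, fun z hz => ?_, ?_, ?_⟩
  · induction hz using Subgroup.closure_induction with
    | mem x hx =>
      obtain ⟨r, hr, t, rfl⟩ := hx
      obtain ⟨y', e⟩ := hdiag r (Z_lt hS r hr) t
      rw [e]; exact xg_mem_Hgrp hr _
    | one => simp
    | mul x y _ _ hx hy => rw [← conj_mul]; exact mul_mem hx hy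
    | inv x _ hx => rw [← conj_inv]; exact inv_mem hx
  · rw [eP, conj_prod_map]
    exact congrArg List.prod (List.map_congr_left fun a ha => hone a ha)
  · obtain ⟨k, hk, e⟩ := word_conj hV s hS.rts hw
    refine ⟨k, hk, R', hR', ?_⟩
    rw [elT, conj_prod_map, show (Fl.map fun a => k * xg D F a (1 : F) * k⁻¹) =
      (Fl.map (wImg c γ w)).map fun a => xg D F a (1 : F) by
        rw [List.map_map]; exact List.map_congr_left fun a ha => (e a (hFlt a ha)).2 1]
    refine (hpI.map fun r => xg D F r (1 : F)).prod_eq' (List.pairwise_of_forall_mem_list fun a ha b hb => ?_)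
    obtain ⟨x, hx, rfl⟩ := List.mem_map.1 ha
    obtain ⟨y, hy, rfl⟩ := List.mem_map.1 hb
    have hl : ∀ z ∈ Fl.map (wImg c γ w), z < D.nroots := fun z hz => by
      obtain ⟨q, hq, rfl⟩ := List.mem_map.1 hz
      exact (e q (hFlt q hq)).1
    exact commute_of_commL hV hl hcI x hx y hy 1 1

/-- the facts at a leaf: `g = P z` -/
theorem leaf_setup {Z N : List ℕ} (h : coverB X Z N = true) {v : ℕ → F} {z : GL D.Idx F}
    (hz : z ∈ Hgrp D F X.Zc) (hv : ∀ j ∈ X.Q, v (γ j) = s.φ (v j)) (hZ : ∀ a ∈ Z, v a = 0)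
    (hN : ∀ a ∈ N, v a ≠ 0) :
    ∃ u : ℕ → F, (∀ a ∈ leafL X Z, u a ≠ 0 ∧ u (γ a) = s.φ (u a)) ∧ (∀ a ∈ leafL X Z, a < D.nroots) ∧
      qel D X.Q v * z * elT D X.R (1 : F) = ((leafL X Z).map fun a => xg D F a (u a)).prod * z := by
  simp only [coverB, Bool.and_eq_true, allL_iff, Bool.or_eq_true, memB_iff, Bool.not_eq_true'] at h
  obtain ⟨hcov, hdis⟩ := h
  classical
  have hdis' : ∀ r ∈ X.R, r ∉ X.Q := fun r hr hq => by
    have := hdis r hr
    rw [memB_iff.2 hq] at this
    exact absurd this (by simp)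
  refine ⟨fun a => if a ∈ X.Q then v a else 1, fun a ha => ?_, fun a ha => ?_, ?_⟩
  · rcases List.mem_append.1 ha with ha | ha
    · obtain ⟨haQ, ha2⟩ := List.mem_filter.1 ha
      refine ⟨?_, by simp [haQ, hS.Q_γ a haQ, hv a haQ]⟩
      simp only [haQ, if_true]
      rcases hcov a haQ with hc | hc
      · rw [memB_iff.2 hc] at ha2; exact absurd ha2 (by simp)
      · exact hN a hc
    · have hγ : γ a ∈ X.R := hS.R_perm.mem_iff.1 (List.mem_map_of_mem ha)
      simp [hdis' a ha, hdis' _ hγ]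
  · rcases List.mem_append.1 ha with ha | ha
    · exact Q_lt hS a (List.mem_filter.1 ha).1
    · exact hS.R_lt a ha
  · have e1 : qel D X.Q v = ((X.Q.filter fun j => !(memB j Z)).map fun a =>
        xg D F a (if a ∈ X.Q then v a else 1)).prod := by
      rw [qel, prod_mask (fun j => !(memB j Z)) _ _ fun j _ hj => by
        simp only [Bool.not_eq_false', memB_iff] at hj
        rw [hZ j hj]; exact (good' hV).xg_zero j]
      exact congrArg List.prod (List.map_congr_left fun a ha => by rw [if_pos (List.mem_filter.1 ha).1])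
    have e2 : elT D X.R (1 : F) = (X.R.map fun a => xg D F a (if a ∈ X.Q then v a else 1)).prod :=
      congrArg List.prod (List.map_congr_left fun a ha => by rw [if_neg (hdis' a ha)])
    rw [leafL, List.map_append, List.prod_append, ← e1, ← e2, mul_assoc, ← (cenR hV hS hz).eq, mul_assoc]

include hf in
/-- a central factor fixed by the symmetry -/
theorem zc_real {θ : ℕ} (hθ : X.Zc = [θ]) {z : GL D.Idx F} (hz : z ∈ Hgrp D F X.Zc) (hfix : s.σ z = z) :
    ∃ w, s.φ w = w ∧ z = xg D F θ w := by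
  obtain ⟨u, rfl⟩ := zc_coords hV hS hz
  have hm : θ ∈ X.Zc := by simp [hθ]
  have e : qel D X.Zc u = xg D F θ (u θ) := by simp [qel, hθ]
  rw [e] at hfix ⊢
  rw [s.σ_x θ (Z_lt hS θ hm), hS.Z_fix θ hm] at hfix
  classical
  have hθm : θ ∈ X.Q ++ X.Zc := List.mem_append_right _ hm
  have h3 := inj_full hV hS hf (v := fun j => if j = θ then s.φ (u θ) else 0)
    (w := fun j => if j = θ then u θ else 0) (by
    rw [ChevInvol.qel_single hV (QZ_nodup hS) hθm, ChevInvol.qel_single hV (QZ_nodup hS) hθm, hfix]) θ hθm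
  exact ⟨u θ, by simpa using h3, rfl⟩

theorem leafC_sound {os : List ℕ} {w : List (ℕ × ℕ)} {Z N : List ℕ} (hZc : X.Zc = []) (hcov : coverB X Z N = true)
    (hsh : shapeOK c γ X.rts X.reps (leafL X Z) os w = true) {v : ℕ → F} {z : GL D.Idx F}
    (hz : z ∈ Hgrp D F X.Zc) (hv : ∀ j ∈ X.Q, v (γ j) = s.φ (v j)) (hZ : ∀ a ∈ Z, v a = 0)
    (hN : ∀ a ∈ N, v a ≠ 0) : Concl s X (qel D X.Q v * z * elT D X.R 1) := by
  obtain ⟨u, hu, hL, e⟩ := leaf_setup hV hS hcov hz hv hZ hN
  obtain ⟨-, -, -, h, hh, -, e1, k, hk, R', hR', e2⟩ := shape_conj hV hS hsh hL hu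
  have hz1 : z = 1 := by
    rw [hZc] at hz
    have : Hgrp D F [] = ⊥ := by
      rw [Hgrp, Subgroup.closure_eq_bot_iff]
      rintro g ⟨r, hr, -⟩
      simp at hr
    rwa [this, Subgroup.mem_bot] at hz
  refine ⟨k * h, mul_mem hk hh, R', hR', ?_⟩
  rw [e, hz1, mul_one, ← e2, ← e1]
  group

include hf in
theorem leafK_sound {os : List ℕ} {w : List (ℕ × ℕ)} {b : ℕ} {Z N : List ℕ} (hcov : coverB X Z N = true)
    (hsh : shapeOK c γ X.rts X.reps (leafL X Z) os w = true) (hr : removeOK c γ X os b = true)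
    {v : ℕ → F} {z : GL D.Idx F} (hz : z ∈ Hgrp D F X.Zc) (hv : ∀ j ∈ X.Q, v (γ j) = s.φ (v j))
    (hZ : ∀ a ∈ Z, v a = 0) (hN : ∀ a ∈ N, v a ≠ 0)
    (hfix : s.σ (qel D X.Q v * z * elT D X.R 1) = qel D X.Q v * z * elT D X.R 1) :
    Concl s X (qel D X.Q v * z * elT D X.R 1) := by
  obtain ⟨u, hu, hL, e⟩ := leaf_setup hV hS hcov hz hv hZ hN
  obtain ⟨hperm, eP, hos, h, hh, hnorm, e1, k, hk, R', hR', e2⟩ := shape_conj hV hS hsh hL hu
  unfold removeOK at hr
  rcases hzc : X.Zc with _ | ⟨θ, _ | ⟨θ', rest⟩⟩ <;> rw [hzc] at hr <;> simp only [Bool.false_eq_true] at hr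
  simp only [Bool.and_eq_true, allL_iff, Bool.or_eq_true, memB_iff, Nat.beq_eq, hV.nroots_eq] at hr
  obtain ⟨⟨⟨⟨⟨hb, hE⟩, hT⟩, hTθ⟩, h0⟩, h1⟩ := hr
  set A := os.flatMap (orbR γ) with hA
  set P := ((leafL X Z).map fun a => xg D F a (u a)).prod with hP
  -- the scaled element is fixed
  have hσA : s.σ (elT D A (1 : F)) = elT D A 1 := by
    have := σ_flat hV hS hos (u := fun _ => (1 : F)) fun a _ => (map_one s.φ).symm
    exact this
  have hfix' : s.σ (h * z * h⁻¹) = h * z * h⁻¹ := by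
    have hg : s.σ (h * (P * z) * h⁻¹) = h * (P * z) * h⁻¹ := by
      rw [map_mul, map_mul, map_inv, σ_Tw hV s hS.rts hh, ← e, hfix]
    rw [← conj_mul, e1, map_mul, hσA] at hg
    exact mul_left_cancel hg
  obtain ⟨w', hw', ez⟩ := zc_real hV hS hf hzc (hnorm z hz) hfix'
  -- the parameter
  obtain ⟨t, ht, htr⟩ : ∃ t, (fixB γ b = true → s.φ t = t) ∧
      ((if oddLen ((termsL c A (oelL γ b)).filter fun x => !x.2) = true then t else 0) +
        (if oddLen ((termsL c A (oelL γ b)).filter fun x => x.2) = true then s.φ t else 0)) + w' = 0 := by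
    cases hfb : fixB γ b with
    | true =>
      refine ⟨w', fun _ => hw', ?_⟩
      have hno : (termsL c A (oelL γ b)).filter (fun x => x.2) = [] := by
        refine List.filter_eq_nil_iff.2 fun x hx => ?_
        simp only [termsL, oelL, hfb, cond_true, List.mem_flatMap, List.mem_map, List.mem_cons,
          List.not_mem_nil, or_false] at hx
        obtain ⟨a, -, y, rfl, q, -, rfl⟩ := hx
        simp
      simp [h0, hno, oddLen, CharTwo.add_self_eq_zero]
    | false =>
      obtain ⟨t, ht⟩ := s.trace w' hw'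
      refine ⟨t, fun h => absurd h (by simp), ?_⟩
      simp [h0, h1.resolve_left (by simp [hfb]), ht, CharTwo.add_self_eq_zero]
  have hmem : elS D s.φ (oelL γ b) t ∈ Tw s X.rts := oel_mem_Tw s hb fun e => ht ((fixB_iff γ).2 e)
  have hElt : ∀ e ∈ oelL γ b, e.1 < D.nroots := fun e he => by simpa using (hE e he).1
  have hAlt : ∀ a ∈ A, a < D.nroots := fun a ha => hL a (hperm.mem_iff.1 ha)
  have e3 := conj_terms hV s hAlt hElt hT t
  have eT : ((termsL c A (oelL γ b)).map fun x => xg D F x.1 (cond x.2 (s.φ t) t)).prod =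
      xg D F θ ((termsL c A (oelL γ b)).map fun x => cond x.2 (s.φ t) t).sum := by
    have : ∀ T : List (ℕ × Bool), (∀ x ∈ T, x.1 = θ) →
        (T.map fun x => xg D F x.1 (cond x.2 (s.φ t) t)).prod =
          xg D F θ (T.map fun x => cond x.2 (s.φ t) t).sum := by
      intro T
      induction T with
      | nil => intro _; simp [(good' hV).xg_zero]
      | cons x T ih =>
        intro hT'
        rw [List.map_cons, List.prod_cons, ih fun y hy => hT' y (List.mem_cons_of_mem _ hy),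
          hT' x List.mem_cons_self, (good' hV).xg_add, List.map_cons, List.sum_cons]
    exact this _ hTθ
  rw [eT, oddLen_sum] at e3
  set o := elS D s.φ (oelL γ b) t with ho
  have hoz : Commute o (xg D F θ w') := Commute.list_prod_left _ _ fun x hx => by
    obtain ⟨p, hp, rfl⟩ := List.mem_map.1 hx
    exact commute_of_commB hV (hElt p hp) (Z_lt hS θ (by simp [hzc])) (hE p hp).2 _ _
  have hall : o * h * (qel D X.Q v * z * elT D X.R 1) * (o * h)⁻¹ = elT D A 1 := by
    rw [e]
    calc o * h * (P * z) * (o * h)⁻¹ = o * (h * P * h⁻¹) * (h * z * h⁻¹) * o⁻¹ := by group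
      _ = (o * elT D A 1 * o⁻¹) * (o * xg D F θ w' * o⁻¹) := by rw [e1, ez]; group
      _ = elT D A 1 * (xg D F θ _ * xg D F θ w') := by rw [e3, hoz.eq, mul_inv_cancel_right, mul_assoc]
      _ = _ := by rw [(good' hV).xg_add, htr, (good' hV).xg_zero, mul_one]
  refine ⟨k * (o * h), mul_mem hk (mul_mem hmem hh), R', hR', ?_⟩
  rw [← e2, ← hall]
  group

include hf in
theorem leafT_sound {os : List ℕ} {w : List (ℕ × ℕ)} {θ : ℕ} {w' : List (ℕ × ℕ)} {Z N : List ℕ}
    (hcov : coverB X Z N = true)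
    (hsh : shapeOK c γ X.rts X.reps (leafL X Z) os w = true) (hr : keepOK c γ X Z os θ w' = true)
    {v : ℕ → F} {z : GL D.Idx F} (hz : z ∈ Hgrp D F X.Zc) (hv : ∀ j ∈ X.Q, v (γ j) = s.φ (v j))
    (hZ : ∀ a ∈ Z, v a = 0) (hN : ∀ a ∈ N, v a ≠ 0)
    (hfix : s.σ (qel D X.Q v * z * elT D X.R 1) = qel D X.Q v * z * elT D X.R 1) :
    Concl s X (qel D X.Q v * z * elT D X.R 1) := by
  obtain ⟨u, hu, hL, e⟩ := leaf_setup hV hS hcov hz hv hZ hN
  obtain ⟨-, eP, hos, h, hh, -, e1, k, hk, R', hR', e2⟩ := shape_conj hV hS hsh hL hu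
  unfold keepOK at hr
  rcases hzc : X.Zc with _ | ⟨θ₀, _ | ⟨θ', rest⟩⟩ <;> rw [hzc] at hr <;> simp only [Bool.false_eq_true] at hr
  simp only [Bool.and_eq_true, Nat.beq_eq, Bool.not_eq_true'] at hr
  obtain ⟨⟨rfl, hnot⟩, hsh'⟩ := hr
  have hnot' : θ ∉ leafL X Z := fun hm => by rw [memB_iff.2 hm] at hnot; exact absurd hnot (by simp)
  set P := ((leafL X Z).map fun a => xg D F a (u a)).prod with hP
  have hσz : s.σ z = z := by
    have hg : s.σ (P * z) = P * z := by rw [← e, hfix]
    rw [map_mul, eP, σ_flat hV hS hos fun a ha => (hu a ?_).2] at hg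
    · exact mul_left_cancel hg
    · exact ((shape_conj hV hS hsh hL hu).1.mem_iff).1 ha
  obtain ⟨x, hx, rfl⟩ := zc_real hV hS hf hzc hz hσz
  by_cases hx0 : x = 0
  · refine ⟨k * h, mul_mem hk hh, R', hR', ?_⟩
    rw [e, hx0, (good' hV).xg_zero, mul_one, ← e2, ← e1]
    group
  classical
  have hθ : θ < D.nroots := Z_lt hS θ (by simp [hzc])
  have hγθ : γ θ = θ := hS.Z_fix θ (by simp [hzc])
  set u' : ℕ → F := fun a => if a = θ then x else u a with hu'
  have hne : ∀ a ∈ leafL X Z, a ≠ θ := fun a ha e => hnot' (e ▸ ha)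
  have hu2 : ∀ a ∈ leafL X Z ++ [θ], u' a ≠ 0 ∧ u' (γ a) = s.φ (u' a) := by
    intro a ha
    rcases List.mem_append.1 ha with ha | ha
    · have ha' : γ a ≠ θ := fun e => by
        have : a = θ := by
          have := congrArg γ e
          rwa [s.γ_inv a (hL a ha), hγθ] at this
        exact hne a ha this
      simp only [hu', if_neg (hne a ha), if_neg ha']
      exact hu a ha
    · rw [List.mem_singleton] at ha
      subst ha
      simp [hu', hγθ, hx, hx0]
  have hL' : ∀ a ∈ leafL X Z ++ [θ], a < D.nroots := fun a ha => by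
    rcases List.mem_append.1 ha with ha | ha
    · exact hL a ha
    · rw [List.mem_singleton] at ha; subst ha; exact hθ
  obtain ⟨-, -, -, h', hh', -, e1', k', hk', R'', hR'', e2'⟩ := shape_conj hV hS hsh' hL' hu2
  have e3 : ((leafL X Z ++ [θ]).map fun a => xg D F a (u' a)).prod = P * xg D F θ x := by
    rw [List.map_append, List.prod_append, hP]
    congr 1
    · exact congrArg List.prod (List.map_congr_left fun a ha => by simp [hu', hne a ha])
    · simp [hu']
  refine ⟨k' * h', mul_mem hk' hh', R'', hR'', ?_⟩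
  rw [e, ← e3, ← e2', ← e1']
  group

end

end Cfsg.Agent.TwistInvol
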