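/-
Soundness of the decision tree: kills, moves and the induction.
-/
import Cfsg.Agent.Lib.TwistInvol.Sound

set_option autoImplicit false

namespace Cfsg.Agent.TwistInvol

open Cfsg.Lie Cfsg.Agent.Chev Cfsg.Agent.ChevInvol

variable {γ : ℕ → ℕ} {c : Cert} {F : Type*} [Field F] {D : ChevalleyDatum}

/-- the involution invariant -/
def Inv2 (s : Tws D F γ) (X : Ctx) (v : ℕ → F) (z : GL D.Idx F) : Prop :=
  z ∈ Hgrp D F X.Zc ∧ s.σ (qel D X.Q v * z * elT D X.R 1) = qel D X.Q v * z * elT D X.R 1 ∧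
    (qel D X.Q v * z * elT D X.R 1) * (qel D X.Q v * z * elT D X.R 1) = 1

theorem exists_sq [CharP F 2] [Finite F] (x : F) : ∃ t : F, t * t = x ∧
    ∀ φ : F ≃+* F, φ x = x → φ t = t := by
  obtain ⟨t, ht⟩ := FiniteField.isSquare_of_char_two (ringChar.eq F 2) x
  refine ⟨t, ht.symm, fun φ h => ?_⟩
  have h1 : φ t * φ t = t * t := by rw [← map_mul, ← ht, h]
  exact CharTwo.sq_injective (by simpa [pow_two] using h1)

section

variable (hV : Valid D c) [CharP F 2] [Finite F] {s : Tws D F γ} {X : Ctx} (hS : Std c s X)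
  {tabs simps : List ℕ} (hf : BNSetup.Facts D tabs simps)
include hV hS

omit [Finite F] in
/-- the invariant under conjugation by a fixed element -/
theorem inv2_conj {v : ℕ → F} {z : GL D.Idx F} (hI : Inv2 s X v z) {h : GL D.Idx F} (hh : h ∈ Tw s X.rts)
    {w : ℕ → F} {z' : GL D.Idx F} (hz' : z' ∈ Hgrp D F X.Zc)
    (e : h * (qel D X.Q v * z * elT D X.R 1) * h⁻¹ = qel D X.Q w * z' * elT D X.R 1) : Inv2 s X w z' := by
  refine ⟨hz', ?_, ?_⟩
  · rw [← e, map_mul, map_mul, map_inv, σ_Tw hV s hS.rts hh, hI.2.1]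
  · rw [← e]
    calc _ = h * ((qel D X.Q v * z * elT D X.R 1) * (qel D X.Q v * z * elT D X.R 1)) * h⁻¹ := by group
      _ = 1 := by rw [hI.2.2, mul_one, mul_inv_cancel]

omit [Finite F] in
/-- a kill -/
theorem kill_step {b : ℕ} (hb : b ∈ X.Q) (hbr : b ∈ X.rts) {t : F} (ht : γ b = b → s.φ t = t)
    {v : ℕ → F} {z : GL D.Idx F} (hz : z ∈ Hgrp D F X.Zc) :
    ∃ h ∈ Tw s X.rts, ∃ z' ∈ Hgrp D F X.Zc, h * (qel D X.Q v * z * elT D X.R 1) * h⁻¹ =
      qel D X.Q (fun j => v j + ind (killL c X b) t j + ind (killL' c γ X b) (s.φ t) j) * z' *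
        elT D X.R 1 := by
  obtain ⟨hblt, -, hc⟩ := rtsOK_spec hV hS.rts b hbr
  set o := elS D s.φ (oelL γ b) t with ho
  set S := elT D X.R (1 : F) with hSdef
  have hSS : S * S = 1 := elT_sq hV hS.R_lt hS.R_comm 1
  refine ⟨o, oel_mem_Tw s hbr ht, ?_⟩
  have key : o⁻¹ = o ∧ ∃ δ₀ δ₁ : ℕ → F, Eqv D F X.Zc o (qel D X.Q δ₀) ∧
      Eqv D F X.Zc (S * o * S) (qel D X.Q δ₁) ∧
      ∀ j, δ₀ j + δ₁ j = ind (killL c X b) t j + ind (killL' c γ X b) (s.φ t) j := by
    cases hfb : fixB γ b with
    | true =>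
      have e : o = xg D F b t := by simp [ho, oelL, hfb, elS]
      refine ⟨by rw [e, xg_inv_self hV], ind [b] t, ind ((cl2 c X.Zc X.ER b).map Prod.fst) t,
        e ▸ eqv_single hV hS hb t, e ▸ eqv_conjR hV hS hb t, fun j => ?_⟩
      have e' : killL' c γ X b = [] := by simp [killL', hfb]
      rw [e', killL, show ind ([] : List ℕ) (s.φ t) j = 0 by simp [ind, oddIn], add_zero]
      exact (ind_cons b _ t j).symm
    | false =>
      have e : o = xg D F b t * xg D F (γ b) (s.φ t) := by simp [ho, oelL, hfb, elS]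
      have hγb := hS.Q_γ b hb
      have hcm := commute_of_commB hV hblt (s.γ_lt b hblt) hc t (s.φ t)
      refine ⟨?_, fun j => ind [b] t j + ind [γ b] (s.φ t) j,
        fun j => ind ((cl2 c X.Zc X.ER b).map Prod.fst) t j + ind ((cl2 c X.Zc X.ER (γ b)).map Prod.fst) (s.φ t) j,
        e ▸ eqv_mul hV hS (eqv_single hV hS hb t) (eqv_single hV hS hγb _), ?_, fun j => ?_⟩
      · rw [e, mul_inv_rev, xg_inv_self hV, xg_inv_self hV, hcm.eq]
      · have e2 : S * o * S = (S * xg D F b t * S) * (S * xg D F (γ b) (s.φ t) * S) := by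
          rw [e]
          simp only [mul_assoc]
          rw [← mul_assoc S S, hSS, one_mul]
        rw [e2]
        exact eqv_mul hV hS (eqv_conjR hV hS hb t) (eqv_conjR hV hS hγb _)
      · have e' : killL' c γ X b = killL c X (γ b) := by simp [killL', hfb]
        rw [e', killL, killL, ind_cons b, ind_cons (γ b)]
        ring
  obtain ⟨hinv, δ₀, δ₁, h0, h1, hsum⟩ := key
  obtain ⟨z₁, hz₁, h2⟩ := eqv_mul hV hS (eqv_mul hV hS h0 (w := v) ⟨1, one_mem _, (mul_one _).symm⟩) h1
  refine ⟨z₁ * z, mul_mem hz₁ hz, ?_⟩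
  have hcz : Commute z (S * o) := by
    refine ((cenR hV hS hz).symm).mul_right (Commute.list_prod_right _ _ fun x hx => ?_)
    obtain ⟨e, he, rfl⟩ := List.mem_map.1 hx
    have : e.1 ∈ X.Q := by
      unfold oelL at he
      cases hfb : fixB γ b <;> rw [hfb] at he <;> simp only [cond_true, cond_false, List.mem_cons,
        List.not_mem_nil, or_false] at he
      · rcases he with rfl | rfl
        exacts [hb, hS.Q_γ b hb]
      · subst he; exact hb
    exact (abelB_cen hV (Q_lt hS) (Z_lt hS) hS.abel (List.mem_append_left _ this) _ hz).symm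
  calc o * (qel D X.Q v * z * S) * o⁻¹ = o * qel D X.Q v * (z * (S * o)) := by rw [hinv]; group
    _ = o * qel D X.Q v * (S * o * (S * S)) * z := by rw [hcz.eq, hSS, mul_one]; group
    _ = (o * qel D X.Q v * (S * o * S)) * (S * z) := by group
    _ = _ := by
      rw [h2, (cenR hV hS hz).eq, show (fun j => δ₀ j + v j + δ₁ j) =
        fun j => v j + ind (killL c X b) t j + ind (killL' c γ X b) (s.φ t) j from funext fun j => by
          rw [add_assoc (v j), ← hsum j]; ring, hSdef]
      group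

omit [Finite F] in
/-- a move -/
theorem move_step {m : List (ℕ × Bool)} (h : moveOK c γ X m = true) {t : F}
    (ht : freeB γ m = false → s.φ t = t) {v : ℕ → F} {z : GL D.Idx F} (hz : z ∈ Hgrp D F X.Zc) :
    ∃ g ∈ Tw s X.rts, ∃ z' ∈ Hgrp D F X.Zc, g * (qel D X.Q v * z * elT D X.R 1) * g⁻¹ =
      qel D X.Q (fun j => ((contrib2 c X.Zc (expand γ m) X.Q).map fun x =>
        if j = x.2.1 then v x.1 * monT s.φ t x.2.2.1 x.2.2.2 else 0).sum) * z' * elT D X.R 1 := by
  simp only [moveOK, Bool.and_eq_true, allL_iff, memB_iff, hV.nroots_eq] at h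
  obtain ⟨⟨⟨⟨⟨hm, hlt⟩, hcen⟩, hT⟩, heven⟩, hcl⟩ := h
  have hE : ∀ e ∈ expand γ m, e.1 < D.nroots := fun e he => by simpa using hlt e he
  set g := elS D s.φ (expand γ m) t with hg
  refine ⟨g, elS_mem_Tw s hm ht, ?_⟩
  obtain ⟨z₁, hz₁, e1⟩ := conj_qel2 hV (Q_lt hS) (Z_lt hS) hS.abel s.φ (Q_nodup hS) hE hcl t v
  have hcz : Commute g z := Commute.list_prod_left _ _ fun x hx => by
    obtain ⟨e, he, rfl⟩ := List.mem_map.1 hx
    exact comm_central hV (hE e he) (Z_lt hS) (fun z hz => hcen e he z hz) _ hz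
  have e2 : g * elT D X.R (1 : F) * g⁻¹ = elT D X.R 1 := by
    rw [hg, conj_terms hV s hS.R_lt hE hT t]
    have hT' := hT
    simp only [termsOK, Bool.and_eq_true, allL_iff, hV.nroots_eq] at hT'
    obtain ⟨⟨⟨-, hTlt⟩, -⟩, hC⟩ := hT'
    have hl : ∀ x ∈ X.R ++ (termsL c X.R (expand γ m)).map Prod.fst, x < D.nroots := fun x hx => by
      rcases List.mem_append.1 hx with hx | hx
      · exact hS.R_lt x hx
      · obtain ⟨y, hy, rfl⟩ := List.mem_map.1 hx; simpa using hTlt y hy
    rw [evenAll_prod (fun x : ℕ × Bool => xg D F x.1 (cond x.2 (s.φ t) t)) _ _ le_rfl ?_ ?_ ?_, mul_one]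
    · intro a
      by_cases ha : a ∈ termsL c X.R (expand γ m)
      · have := List.all_eq_true.1 heven a ha
        simpa using this
      · rw [List.count_eq_zero_of_not_mem ha]
    · exact fun a ha b hb => commute_of_commL hV hl hC _ (List.mem_append_right _ (List.mem_map_of_mem ha))
        _ (List.mem_append_right _ (List.mem_map_of_mem hb)) _ _
    · exact fun a _ => xg_sq hV _ _
  refine ⟨z₁ * z, mul_mem hz₁ hz, ?_⟩
  calc _ = (g * qel D X.Q v * g⁻¹) * (g * z * g⁻¹) * (g * elT D X.R 1 * g⁻¹) := by group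
    _ = _ := by rw [e1, e2, hcz.eq, mul_inv_cancel_right]; group

include hf in
omit [Finite F] in
theorem equiv_of_inv2 {v : ℕ → F} {z : GL D.Idx F} (hI : Inv2 s X v z) :
    ∀ j ∈ X.Q, v (γ j) = s.φ (v j) := equivariant hV hS hf hI.1 hI.2.1

omit [CharP F 2] [Finite F] hV hS in
theorem ind_single {K : List ℕ} {τ : F} {j : ℕ} :
    ind K τ j = if oddIn j K = true then τ else 0 := rfl

include hf in
/-- the parameter of a move -/
theorem kind_param {Z N M : List ℕ} {m : List (ℕ × Bool)} {p tgt : ℕ} {S : List (ℕ × ℕ × ℕ)} {k : Kind}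
    (hk : kindOK c γ X Z N M m p tgt S k = true) {v : ℕ → F} {z : GL D.Idx F} (hI : Inv2 s X v z)
    (hp : p ∈ X.Q) (hpN : v p ≠ 0) (ht : tgt ∈ X.Q) (hZ : ∀ a ∈ Z, v a = 0)
    (hM : ∀ a ∈ M, s.φ (v a) = v a) :
    ∃ t : F, (freeB γ m = false → s.φ t = t) ∧
      v tgt + (S.map fun x => v x.1 * monT s.φ t x.2.1 x.2.2).sum = 0 ∧
      (gainB N tgt k = true → v tgt ≠ 0 → t ≠ 0) := by
  have hv := equiv_of_inv2 hV hS hf hI
  have hreal : ∀ j ∈ X.Q, realB γ M j = true → s.φ (v j) = v j := by
    intro j hj h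
    simp only [realB, Bool.or_eq_true, fixB_iff, memB_iff] at h
    rcases h with h | h
    · rw [← hv j hj, h]
    · exact hM j h
  set r := v tgt / v p with hr
  have hpr : v p * r = v tgt := mul_div_cancel₀ _ hpN
  cases k with
  | one i j =>
    simp only [kindOK, Bool.and_eq_true, List.isPerm_iff] at hk
    obtain ⟨hS', hk⟩ := hk
    have hsum : ∀ t, (S.map fun x => v x.1 * monT s.φ t x.2.1 x.2.2).sum = v p * monT s.φ t i j := by
      intro t
      rw [(hS'.map fun x => v x.1 * monT s.φ t x.2.1 x.2.2).sum_eq]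
      simp
    suffices h : ∃ t : F, (freeB γ m = false → s.φ t = t) ∧ monT s.φ t i j = r ∧ 1 ≤ i + j by
      obtain ⟨t, h1, h2, h3⟩ := h
      refine ⟨t, h1, by rw [hsum, h2, hpr, CharTwo.add_self_eq_zero], fun _ hne h0 => hne ?_⟩
      rw [← hpr, ← h2, h0]
      rcases Nat.eq_zero_or_pos i with hi | hi
      · simp [monT, hi, show j ≠ 0 by omega]
      · simp [monT, show i ≠ 0 by omega]
    have hrr : realB γ M tgt = true → realB γ M p = true → s.φ r = r := fun h1 h2 => by
      rw [hr, map_div₀, hreal tgt ht h1, hreal p hp h2]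
    cases hfr : freeB γ m with
    | true =>
      simp only [hfr, cond_true, Bool.or_eq_true, Bool.and_eq_true, Nat.beq_eq] at hk
      rcases hk with (((⟨rfl, rfl⟩ | ⟨rfl, rfl⟩) | ⟨rfl, rfl⟩) | ⟨rfl, rfl⟩) | ⟨⟨⟨rfl, rfl⟩, h1⟩, h2⟩
      · exact ⟨r, fun h => absurd h (by simp), by simp [monT], le_rfl⟩
      · exact ⟨s.φ r, fun h => absurd h (by simp), by simp [monT, s.inv], le_rfl⟩
      · obtain ⟨t, ht', -⟩ := exists_sq r
        exact ⟨t, fun h => absurd h (by simp), by simp [monT, pow_two, ht'], by omega⟩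
      · obtain ⟨t, ht', -⟩ := exists_sq r
        exact ⟨s.φ t, fun h => absurd h (by simp), by simp [monT, pow_two, s.inv, ht'], by omega⟩
      · obtain ⟨t, ht', hφ⟩ := exists_sq r
        exact ⟨t, fun h => absurd h (by simp), by simp [monT, hφ s.φ (hrr h1 h2), ht'], by omega⟩
    | false =>
      simp only [hfr, cond_false, Bool.or_eq_true, Bool.and_eq_true, Nat.beq_eq] at hk
      obtain ⟨⟨⟨h1, h2⟩, rfl⟩, hi⟩ := hk
      rcases hi with rfl | rfl
      · exact ⟨r, fun _ => hrr h1 h2, by simp [monT], by omega⟩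
      · obtain ⟨t, ht', hφ⟩ := exists_sq r
        exact ⟨t, fun _ => hφ s.φ (hrr h1 h2), by simp [monT, pow_two, ht'], by omega⟩
  | tr =>
    simp only [kindOK, Bool.and_eq_true, List.isPerm_iff] at hk
    obtain ⟨⟨hfr, h1⟩, hS'⟩ := hk
    obtain ⟨y, hy⟩ := s.trace (v tgt) (hreal tgt ht h1)
    refine ⟨y / v p, fun h => absurd h (by simp [hfr]), ?_, fun h => absurd h (by simp [gainB])⟩
    rw [(hS'.map fun x => v x.1 * monT s.φ (y / v p) x.2.1 x.2.2).sum_eq]
    simp only [List.map_cons, List.map_nil, List.sum_cons, List.sum_nil, add_zero, monT, pow_zero, pow_one,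
      mul_one, one_mul, hv p hp, ← map_mul, mul_div_cancel₀ _ hpN, hy, CharTwo.add_self_eq_zero]
  | quad =>
    simp only [kindOK, Bool.and_eq_true, List.isPerm_iff, Bool.not_eq_true'] at hk
    obtain ⟨⟨⟨⟨⟨-, hS'⟩, hq⟩, -⟩, -⟩, -⟩ := hk
    have := quad hV hS hf hI.1 hI.2.2 hZ hq
    simp only [List.map_cons, List.map_nil, List.sum_cons, List.sum_nil, add_zero, nrm_mul, hv p hp,
      hv tgt ht, CharTwo.add_eq_zero] at this
    have hφp : s.φ (v p) ≠ 0 := by simpa using hpN
    refine ⟨r, fun _ => ?_, ?_, fun h => absurd h (by simp [gainB])⟩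
    · rw [hr, map_div₀, div_eq_div_iff hφp hpN, mul_comm, this, mul_comm]
    · rw [(hS'.map fun x => v x.1 * monT s.φ r x.2.1 x.2.2).sum_eq]
      simp [monT, hpr, CharTwo.add_self_eq_zero]

include hf in
/-- Soundness of the checker. -/
theorem check_sound : ∀ (T : Tr) (Z N M : List ℕ), check c γ X T Z N M = true → ∀ (v : ℕ → F) (z : GL D.Idx F),
    (∀ a ∈ Z, v a = 0) → (∀ a ∈ N, v a ≠ 0) → (∀ a ∈ M, s.φ (v a) = v a) → Inv2 s X v z →
    Concl s X (qel D X.Q v * z * elT D X.R (1 : F)) := by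
  intro T
  induction T with
  | absurd j a =>
    intro Z N M h v z hZ hN _ hI
    simp only [check, Bool.and_eq_true, memB_iff] at h
    have := equations hV hS hf hI.1 hI.2.2 hZ h.1
    simp only [List.map_cons, List.map_nil, List.sum_cons, List.sum_nil, add_zero] at this
    exact absurd this (hN a h.2)
  | absurdQ a b =>
    intro Z N M h v z hZ hN _ hI
    simp only [check, Bool.and_eq_true, memB_iff] at h
    have := quad hV hS hf hI.1 hI.2.2 hZ h.1.1
    simp only [List.map_cons, List.map_nil, List.sum_cons, List.sum_nil, add_zero, nrm_mul] at this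
    exact absurd this (mul_ne_zero (hN a h.1.2) (hN b h.2))
  | zero j b T ih =>
    intro Z N M h v z hZ hN hM hI
    simp only [check, Bool.and_eq_true, memB_iff] at h
    have := equations hV hS hf hI.1 hI.2.2 hZ h.1.1
    simp only [List.map_cons, List.map_nil, List.sum_cons, List.sum_nil, add_zero] at this
    refine ih _ _ _ h.2 v z (fun a ha => ?_) hN hM hI
    rcases List.mem_cons.1 ha with rfl | ha
    · exact this
    rcases List.mem_cons.1 ha with rfl | ha
    · rw [equiv_of_inv2 hV hS hf hI b h.1.2, this, map_zero]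
    · exact hZ a ha
  | eq j a b T ih =>
    intro Z N M h v z hZ hN hM hI
    simp only [check, Bool.and_eq_true, memB_iff] at h
    have := equations hV hS hf hI.1 hI.2.2 hZ h.1.1.1
    simp only [List.map_cons, List.map_nil, List.sum_cons, List.sum_nil, add_zero, CharTwo.add_eq_zero] at this
    have hb : v b ≠ 0 := this ▸ hN a h.1.1.2
    refine ih _ _ _ h.2 v z hZ (fun x hx => ?_) hM hI
    rcases List.mem_cons.1 hx with rfl | hx
    · exact hb
    rcases List.mem_cons.1 hx with rfl | hx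
    · rw [equiv_of_inv2 hV hS hf hI b h.1.2]; simpa using hb
    · exact hN x hx
  | real j b T ih =>
    intro Z N M h v z hZ hN hM hI
    simp only [check, Bool.and_eq_true, memB_iff] at h
    have := equations hV hS hf hI.1 hI.2.2 hZ h.1.1
    simp only [List.map_cons, List.map_nil, List.sum_cons, List.sum_nil, add_zero, CharTwo.add_eq_zero] at this
    have hv := equiv_of_inv2 hV hS hf hI b h.1.2
    refine ih _ _ _ h.2 v z hZ hN (fun x hx => ?_) hI
    rcases List.mem_cons.1 hx with rfl | hx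
    · rw [← hv, ← this]
    rcases List.mem_cons.1 hx with rfl | hx
    · rw [hv, s.inv, ← hv, this]
    · exact hM x hx
  | kill b tgt T ih =>
    intro Z N M h v z hZ hN hM hI
    simp only [check, Bool.and_eq_true, memB_iff] at h
    obtain ⟨⟨⟨⟨hb, hbr⟩, htQ⟩, hcond⟩, hT⟩ := h
    have hv := equiv_of_inv2 hV hS hf hI
    have hreal : realB γ M tgt = true → s.φ (v tgt) = v tgt := fun h => by
      simp only [realB, Bool.or_eq_true, fixB_iff, memB_iff] at h
      rcases h with h | h
      · rw [← hv tgt htQ, h]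
      · exact hM tgt h
    obtain ⟨t, htφ, hkill⟩ : ∃ t : F, (γ b = b → s.φ t = t) ∧
        v tgt + ind (killL c X b) t tgt + ind (killL' c γ X b) (s.φ t) tgt = 0 := by
      cases hfb : fixB γ b with
      | true =>
        simp only [hfb, cond_true, Bool.and_eq_true] at hcond
        exact ⟨v tgt, fun _ => hreal hcond.1, by
          simp [ind, hcond.2, killL', hfb, oddIn, CharTwo.add_self_eq_zero]⟩
      | false =>
        simp only [hfb, cond_false] at hcond
        have hnb : ¬ γ b = b := (fixB_false γ).1 hfb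
        cases h1 : oddIn tgt (killL c X b) with
        | true =>
          simp only [h1, cond_true, Bool.or_eq_true, Bool.not_eq_true'] at hcond
          cases h2 : oddIn tgt (killL' c γ X b) with
          | true =>
            obtain ⟨t, ht⟩ := s.trace _ (hreal (hcond.resolve_left (by simp [h2])))
            exact ⟨t, fun h => absurd h hnb, by simp [ind, h1, h2, add_assoc, ht, CharTwo.add_self_eq_zero]⟩
          | false => exact ⟨v tgt, fun h => absurd h hnb, by simp [ind, h1, h2, CharTwo.add_self_eq_zero]⟩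
        | false =>
          simp only [h1, cond_false] at hcond
          exact ⟨s.φ (v tgt), fun h => absurd h hnb, by
            simp [ind, h1, hcond, s.inv, CharTwo.add_self_eq_zero]⟩
    obtain ⟨g, hg, z', hz', e⟩ := kill_step hV hS hb hbr htφ hI.1 (v := v)
    refine Concl.conj hg ?_
    rw [e]
    have hI' := inv2_conj hV hS hI hg hz' e
    have hv' := equiv_of_inv2 hV hS hf hI'
    have hkeep : ∀ j, (oddIn j (killL c X b) || oddIn j (killL' c γ X b)) = false →
        v j + ind (killL c X b) t j + ind (killL' c γ X b) (s.φ t) j = v j := fun j h => by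
      simp only [Bool.or_eq_false_iff] at h
      simp [ind, h.1, h.2]
    refine ih _ _ _ hT _ z' (fun a ha => ?_) (fun a ha => ?_) (fun a ha => ?_) hI'
    · rcases List.mem_cons.1 ha with rfl | ha
      · exact hkill
      rcases List.mem_cons.1 ha with rfl | ha
      · rw [hv' tgt htQ, hkill, map_zero]
      · obtain ⟨ha1, ha2⟩ := List.mem_filter.1 ha
        simp only [Bool.not_eq_true'] at ha2
        rw [hkeep a ha2, hZ a ha1]
    · obtain ⟨ha1, ha2⟩ := List.mem_filter.1 ha
      simp only [Bool.and_eq_true, Bool.not_eq_true'] at ha2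
      rw [hkeep a ha2.1.1]; exact hN a ha1
    · obtain ⟨ha1, ha2⟩ := List.mem_filter.1 ha
      simp only [Bool.not_eq_true'] at ha2
      rw [hkeep a ha2]; exact hM a ha1
  | move m p tgt k T ih =>
    intro Z N M h v z hZ hN hM hI
    simp only [check, Bool.and_eq_true, memB_iff] at h
    obtain ⟨⟨⟨⟨⟨⟨hm, htQ⟩, hpQ⟩, hpN⟩, hself⟩, hk⟩, hT⟩ := h
    obtain ⟨t, htφ, hsum, hgain⟩ := kind_param hV hS hf hk hI hpQ (hN p hpN) htQ hZ hM
    obtain ⟨g, hg, z', hz', e⟩ := move_step hV hS hm htφ hI.1 (v := v)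
    refine Concl.conj hg ?_
    rw [e]
    have hI' := inv2_conj hV hS hI hg hz' e
    have hv' := equiv_of_inv2 hV hS hf hI'
    set E := contrib2 c X.Zc (expand γ m) X.Q with hE
    have hsame : ∀ j, (memB j X.Q && selfOK j E && (others Z j E).isEmpty) = true →
        (E.map fun x => if j = x.2.1 then v x.1 * monT s.φ t x.2.2.1 x.2.2.2 else 0).sum = v j := by
      intro j h
      simp only [Bool.and_eq_true, List.isEmpty_iff] at h
      rw [sum_self v t Z hZ E h.1.2, srcs, h.2]
      simp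
    have htgt : (E.map fun x => if tgt = x.2.1 then v x.1 * monT s.φ t x.2.2.1 x.2.2.2 else 0).sum = 0 := by
      rw [sum_self v t Z hZ E hself]; exact hsum
    refine ih _ _ _ hT _ z' (fun a ha => ?_) (fun a ha => ?_) (fun a ha => ?_) hI'
    · rcases List.mem_cons.1 ha with rfl | ha
      · exact htgt
      rcases List.mem_cons.1 ha with rfl | ha
      · rw [hv' tgt htQ, htgt, map_zero]
      · obtain ⟨-, ha2⟩ := List.mem_filter.1 ha
        simp only [Bool.and_eq_true, allL_iff, Bool.or_eq_true, Bool.not_eq_true', memB_iff] at ha2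
        refine List.sum_eq_zero fun y hy => ?_
        obtain ⟨x, hx, rfl⟩ := List.mem_map.1 hy
        split
        · rename_i e'
          rcases ha2.2 x hx with h' | h'
          · rw [← e', Nat.beq_refl] at h'; exact absurd h' (by simp)
          · rw [hZ _ h', zero_mul]
        · rfl
    · rcases List.mem_append.1 ha with ha | ha
      · obtain ⟨ha1, ha2⟩ := List.mem_filter.1 ha
        simp only [Bool.and_eq_true, Bool.not_eq_true'] at ha2
        rw [hsame a (by simp [ha2.1.1.1.1, ha2.1.1.1.2, ha2.1.1.2])]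
        exact hN a ha1
      · obtain ⟨ha1, ha2⟩ := List.mem_filter.1 ha
        simp only [Bool.and_eq_true, Bool.not_eq_true'] at ha2
        obtain ⟨⟨⟨⟨⟨hgn, -⟩, hse⟩, hsrc⟩, -⟩, -⟩ := ha2
        have htN : tgt ∈ N := by
          cases k <;> simp [gainB, memB_iff] at hgn
          exact hgn
        have ht0 : t ≠ 0 := hgain hgn (hN tgt htN)
        rcases hs : srcs Z a E with _ | ⟨⟨q, i, j⟩, _ | ⟨y, l⟩⟩ <;> rw [hs] at hsrc <;>
          simp only [Bool.false_eq_true, memB_iff] at hsrc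
        rw [sum_self v t Z hZ E hse, hs, hZ a ha1]
        simp [monT, hN q hsrc, ht0]
    · obtain ⟨ha1, ha2⟩ := List.mem_filter.1 ha
      rw [hsame a ha2]; exact hM a ha1
  | split x T₀ T₁ ih₀ ih₁ =>
    intro Z N M h v z hZ hN hM hI
    simp only [check, Bool.and_eq_true, memB_iff] at h
    have hv := equiv_of_inv2 hV hS hf hI x h.1.1
    by_cases hx : v x = 0
    · refine ih₀ _ _ _ h.1.2 v z (fun a ha => ?_) hN hM hI
      rcases List.mem_cons.1 ha with rfl | ha
      · exact hx
      rcases List.mem_cons.1 ha with rfl | ha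
      · rw [hv, hx, map_zero]
      · exact hZ a ha
    · refine ih₁ _ _ _ h.2 v z hZ (fun a ha => ?_) hM hI
      rcases List.mem_cons.1 ha with rfl | ha
      · exact hx
      rcases List.mem_cons.1 ha with rfl | ha
      · rw [hv]; simpa using hx
      · exact hN a ha
  | leafC os w =>
    intro Z N M h v z hZ hN _ hI
    simp only [check, Bool.and_eq_true, List.isEmpty_iff] at h
    exact leafC_sound hV hS h.1.1 h.1.2 h.2 hI.1 (equiv_of_inv2 hV hS hf hI) hZ hN
  | leafK os w b =>
    intro Z N M h v z hZ hN _ hI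
    simp only [check, Bool.and_eq_true] at h
    exact leafK_sound hV hS hf h.1.1 h.1.2 h.2 hI.1 (equiv_of_inv2 hV hS hf hI) hZ hN hI.2.1
  | leafT os w θ w' =>
    intro Z N M h v z hZ hN _ hI
    simp only [check, Bool.and_eq_true] at h
    exact leafT_sound hV hS hf h.1.1 h.1.2 h.2 hI.1 (equiv_of_inv2 hV hS hf hI) hZ hN hI.2.1

end

end Cfsg.Agent.TwistInvol
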