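/-
From the decision trees to the classification: a chain of radicals stable under the twist.
-/
import Cfsg.Agent.Lib.TwistInvol.CheckSound

set_option autoImplicit false

namespace Cfsg.Agent.TwistInvol

open Cfsg.Lie Cfsg.Agent.Chev Cfsg.Agent.ChevInvol

/-- Fixed involutions of the group of the roots `S` are conjugate, within the fixed group of `rts`, to
representatives. -/
def LevelInv {γ : ℕ → ℕ} {D : ChevalleyDatum} {F : Type*} [Field F] (s : Tws D F γ) (S rts : List ℕ)
    (reps : List (List ℕ)) : Prop :=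
  ∀ u ∈ Hgrp D F S, s.σ u = u → u * u = 1 →
    ∃ h ∈ Tw s rts, ∃ R ∈ reps, h * u * h⁻¹ = elT D R (1 : F)

variable (c : Cert) (γ : ℕ → ℕ)

/-- a closed set of positive roots -/
noncomputable def closedB (S : List ℕ) : Bool :=
  allL (fun r => Nat.ble (c.nroots / 2) r && Nat.blt r c.nroots &&
    allL (fun s => allL (fun x : ℕ × ℤ × ℕ × ℕ => memB x.1 S) (c.comm r s)) S) S

/-- `X_r` normalises the radical -/
noncomputable def normB (Q L : List ℕ) : Bool :=
  allL (fun r => Nat.blt r c.nroots && allL (fun b => adjOK c r b && allL (fun k => memB k Q) (nxt c r b)) Q) L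

/-- one step of the chain, apart from the trees -/
noncomputable def stepOK (S rts S' rts' Q : List ℕ) : Bool :=
  allL (fun r => memB r S || memB r Q) S' && allL (fun r => memB r rts') rts &&
  closedB c S && closedB c Q && allL (fun r => !(memB r Q)) S &&
  normB c Q S && normB c Q rts && allL (fun r => memB (γ r) S) S && allL (fun r => memB (γ r) Q) Q &&
  rtsOK c γ rts

/-- the trees of one step -/
noncomputable def treesOK (rts' Q Zc : List ℕ) (reps' : List (List ℕ)) : List (List ℕ) → List Tr → Bool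
  | [], [] => true
  | R :: l, T :: m =>
    ctxOK c γ ⟨rts', Q, Zc, R, reps'⟩ && check c γ ⟨rts', Q, Zc, R, reps'⟩ T [] [] [] &&
      treesOK rts' Q Zc reps' l m
  | _, _ => false

/-- the element on the roots `L` is moved by `w` to one from which a tree reaches the representatives -/
noncomputable def reduceOK (X : Ctx) (T : Tr) (N : List ℕ) (L os : List ℕ) (w : List (ℕ × ℕ)) : Bool :=
  let L₀ := (X.Q.filter fun j => memB j N) ++ X.R
  ctxOK c γ X && allL (fun r => !(memB r N)) X.R && commL c L₀ && (L₀.map γ).isPerm L₀ &&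
    allL (fun j => Nat.blt j c.nroots) L && shapeOK c γ X.rts [L₀] L os w &&
    allL (fun j => memB j X.Q) N && check c γ X T (X.Q.filter fun j => !(memB j N)) N []

variable {c γ} {F : Type*} [Field F] {D : ChevalleyDatum}

theorem treesOK_mem {rts' Q Zc : List ℕ} {reps' : List (List ℕ)} : ∀ {l : List (List ℕ)} {m : List Tr},
    treesOK c γ rts' Q Zc reps' l m = true → ∀ R ∈ l,
      ∃ T, ctxOK c γ ⟨rts', Q, Zc, R, reps'⟩ = true ∧ check c γ ⟨rts', Q, Zc, R, reps'⟩ T [] [] [] = true := by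
  intro l
  induction l with
  | nil => intro m _ R hR; simp at hR
  | cons A l ih =>
    intro m h R hR
    cases m with
    | nil => simp [treesOK] at h
    | cons T m =>
      simp only [treesOK, Bool.and_eq_true] at h
      rcases List.mem_cons.1 hR with rfl | hR
      · exact ⟨T, h.1.1, h.1.2⟩
      · exact ih h.2 R hR

theorem levelInv_base (s : Tws D F γ) {rts : List ℕ} {reps : List (List ℕ)} (h : [] ∈ reps) :
    LevelInv s [] rts reps := by
  intro u hu _ _
  have : Hgrp D F [] = ⊥ := by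
    rw [Hgrp, Subgroup.closure_eq_bot_iff]
    rintro g ⟨r, hr, -⟩
    simp at hr
  rw [this, Subgroup.mem_bot] at hu
  exact ⟨1, one_mem _, [], h, by simp [hu, elT]⟩

variable (hV : Valid D c) [CharP F 2] (s : Tws D F γ) {tabs simps : List ℕ} (hf : BNSetup.Facts D tabs simps)
include hV

theorem normB_le {Q L : List ℕ} (hQ : ∀ b ∈ Q, b < D.nroots) (h : normB c Q L = true) :
    Hgrp D F L ≤ Subgroup.normalizer (Hgrp D F Q : Set (GL D.Idx F)) := by
  simp only [normB, allL_iff, Bool.and_eq_true, memB_iff, hV.nroots_eq] at h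
  rw [Hgrp, Subgroup.closure_le]
  rintro _ ⟨r, hr, t, rfl⟩
  have hr' : r < D.nroots := by simpa using (h r hr).1
  have key : ∀ y ∈ Hgrp D F Q, xg D F r t * y * (xg D F r t)⁻¹ ∈ Hgrp D F Q := by
    intro y hy
    induction hy using Subgroup.closure_induction with
    | mem x hx =>
      obtain ⟨b, hb, u, rfl⟩ := hx
      rw [xg_inv_self hV, xg_conj hV hr' (hQ b hb) ((h r hr).2 b hb).1]
      refine mul_mem (xg_mem_Hgrp hb u) (Subgroup.list_prod_mem _ fun x hx => ?_)
      obtain ⟨k, hk, rfl⟩ := List.mem_map.1 hx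
      exact xg_mem_Hgrp (((h r hr).2 b hb).2 k hk) _
    | one => simp
    | mul x y _ _ ihx ihy => rw [← conj_mul]; exact mul_mem ihx ihy
    | inv x _ ih => rw [← conj_inv]; exact inv_mem ih
  rw [SetLike.mem_coe, Subgroup.mem_normalizer_iff]
  refine fun y => ⟨key y, fun hy => ?_⟩
  have := key _ hy
  have hs := xg_sq hV r t (F := F)
  rw [xg_inv_self hV] at this
  simpa [mul_assoc, hs, ← mul_assoc (xg D F r t) (xg D F r t)] using this

omit [CharP F 2] in
theorem Hgrp_le_rootGen {S : List ℕ} (hS : ∀ r ∈ S, r < D.nroots) :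
    Hgrp D F S ≤ BNSetup.rootGen (good' hV) F {r | r.val ∈ S} := by
  rw [Hgrp, Subgroup.closure_le]
  rintro _ ⟨r, hr, t, rfl⟩
  have := BNSetup.xe_mem_rootGen (good' hV) (F := F) (S := {r | r.val ∈ S}) (r := ⟨r, hS r hr⟩) hr t
  rwa [(good' hV).eq_xg (BNSetup.coe_xe (good' hV) r t)] at this

omit [CharP F 2] in
theorem closedB_spec {S : List ℕ} (h : closedB c S = true) :
    (∀ r ∈ S, r < D.nroots) ∧ BNSetup.ClosedPos D {r | r.val ∈ S} := by
  simp only [closedB, allL_iff, Bool.and_eq_true, memB_iff, hV.nroots_eq] at h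
  refine ⟨fun r hr => by simpa using (h r hr).1.2, fun r hr => by simpa using (h r.val hr).1.1,
    fun r hr s hs x hx _ => ?_⟩
  rw [hV.comm_eq r.2 s.2] at hx
  exact (h r.val hr).2 s.val hs x hx

variable [Finite F]

include hf in
theorem levelInv_step {S rts S' rts' Q Zc : List ℕ} {reps reps' : List (List ℕ)} {trees : List Tr}
    (hs : stepOK c γ S rts S' rts' (Q ++ Zc) = true) (ht : treesOK c γ rts' Q Zc reps' reps trees = true)
    (H : LevelInv s S rts reps) : LevelInv s S' rts' reps' := by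
  intro g hg hσ hg2
  simp only [stepOK, Bool.and_eq_true, allL_iff, Bool.or_eq_true, memB_iff, Bool.not_eq_true'] at hs
  obtain ⟨⟨⟨⟨⟨⟨⟨⟨⟨hS', hrts⟩, hSc⟩, hQc⟩, hdis⟩, hnS⟩, hnR⟩, hγS⟩, hγQ⟩, hrOK⟩ := hs
  obtain ⟨hSlt, hScl⟩ := closedB_spec hV hSc
  obtain ⟨hQlt, hQcl⟩ := closedB_spec hV hQc
  have hN := normB_le (F := F) hV hQlt hnS
  have hN' := normB_le (F := F) hV hQlt hnR
  have inter : ∀ y, y ∈ Hgrp D F (Q ++ Zc) → y ∈ Hgrp D F S → y = 1 := by
    intro y h1 h2
    have := BNSetup.rootGen_inter (good' hV) hf hQcl hScl (Hgrp_le_rootGen hV hQlt h1)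
      (Hgrp_le_rootGen hV hSlt h2)
    have he : {r : Fin D.nroots | r.val ∈ Q ++ Zc} ∩ {r | r.val ∈ S} = ∅ := by
      ext r
      simp only [Set.mem_inter_iff, Set.mem_setOf_eq, Set.mem_empty_iff_false, iff_false, not_and]
      intro h1 h2
      have := hdis r.val h2
      rw [memB_iff.2 h1] at this
      exact absurd this (by simp)
    rw [he, BNSetup.rootGen] at this
    simpa using this
  -- decompose
  obtain ⟨q, hq, u, hu, rfl⟩ : ∃ q ∈ Hgrp D F (Q ++ Zc), ∃ u ∈ Hgrp D F S, q * u = g := by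
    have hle : Hgrp D F S' ≤ Hgrp D F (Q ++ Zc) ⊔ Hgrp D F S := by
      rw [Hgrp, Subgroup.closure_le]
      rintro _ ⟨r, hr, t, rfl⟩
      rcases hS' r hr with h | h
      · exact Subgroup.mem_sup_right (xg_mem_Hgrp h t)
      · exact Subgroup.mem_sup_left (xg_mem_Hgrp h t)
    have := hle hg
    rw [← SetLike.mem_coe, Subgroup.coe_mul_of_right_le_normalizer_left _ _ hN] at this
    exact this
  have hu2 : u * u = 1 := by
    refine inter _ ?_ (mul_mem hu hu)
    have h3 : u * q * u⁻¹ ∈ Hgrp D F (Q ++ Zc) := (Subgroup.mem_normalizer_iff.1 (hN hu) q).1 hq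
    have h4 : u * u = (q * (u * q * u⁻¹))⁻¹ := by
      refine eq_inv_of_mul_eq_one_right ?_
      calc _ = q * u * (q * u) := by group
        _ = 1 := hg2
    rw [h4]
    exact inv_mem (mul_mem hq h3)
  have hσq : s.σ q ∈ Hgrp D F (Q ++ Zc) := σ_Hgrp s (fun r hr => ⟨hQlt r hr, hγQ r hr⟩) hq
  have hσu : s.σ u = u := by
    have h1 : s.σ u * u⁻¹ = (s.σ q)⁻¹ * q := by
      rw [map_mul] at hσ
      rw [mul_inv_eq_iff_eq_mul, mul_assoc, ← hσ, inv_mul_cancel_left]
    have := inter _ (h1 ▸ mul_mem (inv_mem hσq) hq)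
      (mul_mem (σ_Hgrp s (fun r hr => ⟨hSlt r hr, hγS r hr⟩) hu) (inv_mem hu))
    exact mul_inv_eq_one.1 this
  obtain ⟨h, hh, R, hR, e⟩ := H u hu hσu hu2
  obtain ⟨T, hX, hT⟩ := treesOK_mem ht R hR
  have hS2 := std_of_ctxOK hV s hX
  have hq' : h * q * h⁻¹ ∈ Hgrp D F (Q ++ Zc) :=
    (Subgroup.mem_normalizer_iff.1 (hN' (Tw_le_Hgrp hV s hrOK hh)) q).1 hq
  have coords : ∀ y ∈ Hgrp D F (Q ++ Zc), ∃ v : ℕ → F, Eqv D F Zc y (qel D Q v) := by
    intro y hy
    induction hy using Subgroup.closure_induction with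
    | mem x hx =>
      obtain ⟨b, hb, t, rfl⟩ := hx
      rcases List.mem_append.1 hb with hb | hb
      · exact ⟨_, eqv_single hV hS2 hb t⟩
      · exact ⟨fun _ => 0, _, xg_mem_Hgrp hb t, by rw [ChevInvol.qel_zero hV, one_mul]⟩
    | one => exact ⟨fun _ => 0, 1, one_mem _, by rw [ChevInvol.qel_zero hV, one_mul]⟩
    | mul x y _ _ ihx ihy =>
      obtain ⟨v, hv⟩ := ihx; obtain ⟨w, hw⟩ := ihy
      exact ⟨_, eqv_mul hV hS2 hv hw⟩
    | inv x _ ih =>
      obtain ⟨v, z, hz, rfl⟩ := ih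
      obtain ⟨z', hz', e'⟩ := qel_add hV (Q_lt hS2) (Z_lt hS2) hS2.abel v v
      simp only [CharTwo.add_self_eq_zero, ChevInvol.qel_zero hV, one_mul] at e'
      refine ⟨v, z⁻¹ * z'⁻¹, mul_mem (inv_mem hz) (inv_mem hz'), ?_⟩
      refine inv_eq_of_mul_eq_one_right ?_
      have hc := (cenQ hV hS2 v hz).eq
      calc qel D Q v * z * (qel D Q v * (z⁻¹ * z'⁻¹)) = qel D Q v * (z * qel D Q v) * z⁻¹ * z'⁻¹ := by group
        _ = (qel D Q v * qel D Q v) * z'⁻¹ := by rw [← hc]; group
        _ = 1 := by rw [e', mul_inv_cancel]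
  obtain ⟨v, z, hz, hv⟩ := coords _ hq'
  have e2 : h * (q * u) * h⁻¹ = qel D Q v * z * elT D R 1 := by rw [← conj_mul, e, hv]
  obtain ⟨k, hk, R', hR', e'⟩ := check_sound hV hS2 hf T [] [] [] hT v z (by simp) (by simp) (by simp)
    ⟨hz, by
      show s.σ (qel D Q v * z * elT D R 1) = qel D Q v * z * elT D R 1
      rw [← e2, map_mul, map_mul, map_inv, σ_Tw hV s hrOK hh, hσ], by
      show qel D Q v * z * elT D R 1 * (qel D Q v * z * elT D R 1) = 1
      rw [← e2]
      calc _ = h * ((q * u) * (q * u)) * h⁻¹ := by group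
        _ = 1 := by rw [hg2, mul_one, mul_inv_cancel]⟩
  refine ⟨k * h, mul_mem hk (Tw_mono s hrts hh), R', hR', ?_⟩
  rw [← e', ← e2]
  group

include hf in
/-- one more representative is superfluous -/
theorem reduce {X : Ctx} {T : Tr} {N L os : List ℕ} {w : List (ℕ × ℕ)}
    (h : reduceOK c γ X T N L os w = true) :
    ∃ g ∈ Tw s X.rts, ∃ R' ∈ X.reps, g * elT D L (1 : F) * g⁻¹ = elT D R' 1 := by
  simp only [reduceOK, Bool.and_eq_true, allL_iff, Bool.not_eq_true', memB_iff, List.isPerm_iff,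
    hV.nroots_eq] at h
  obtain ⟨⟨⟨⟨⟨⟨⟨hX, hdis⟩, hcomm⟩, hperm⟩, hL⟩, hsh⟩, hNQ⟩, hT⟩ := h
  have hS := std_of_ctxOK hV s hX
  set L₀ := (X.Q.filter fun j => memB j N) ++ X.R with hL₀
  have hS' : Std c s { X with reps := [L₀] } := ⟨hS.rts, hS.R_lt, hS.R_comm, hS.R_perm, hS.QZ_pos, hS.QZ_eq,
    hS.abel, hS.Q_γ, hS.Z_fix, hS.cl, hS.Z_R⟩
  obtain ⟨-, -, -, g, hg, -, e1, k, hk, R₀, hR₀, e2⟩ :=
    shape_conj hV hS' hsh (fun a ha => by simpa using hL a ha) (u := fun _ => (1 : F))
      fun a _ => ⟨one_ne_zero, (map_one s.φ).symm⟩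
  obtain rfl : R₀ = L₀ := by simpa using hR₀
  classical
  set v : ℕ → F := fun j => if j ∈ N then 1 else 0 with hv
  have hlt : ∀ a ∈ L₀, a < D.nroots := fun a ha => by
    rcases List.mem_append.1 ha with ha | ha
    · exact Q_lt hS a (List.mem_filter.1 ha).1
    · exact hS.R_lt a ha
  have eg : qel D X.Q v * 1 * elT D X.R (1 : F) = elT D L₀ 1 := by
    rw [mul_one, hL₀, elT, elT, List.map_append, List.prod_append]
    congr 1
    rw [qel, prod_mask (fun j => memB j N) _ _ fun j _ hj => by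
      have : j ∉ N := fun hm => by rw [memB_iff.2 hm] at hj; exact absurd hj (by simp)
      rw [hv]; simp [this, (good' hV).xg_zero]]
    refine congrArg List.prod (List.map_congr_left fun j hj => ?_)
    simp [hv, memB_iff.1 (List.mem_filter.1 hj).2]
  obtain ⟨m, hm, R', hR', e3⟩ := check_sound hV hS hf T (X.Q.filter fun j => !(memB j N)) N [] hT v 1
    (fun a ha => by
      have := (List.mem_filter.1 ha).2
      simp only [Bool.not_eq_true'] at this
      have ha' : a ∉ N := fun hm => by rw [memB_iff.2 hm] at this; exact absurd this (by simp)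
      simp [hv, ha'])
    (fun a ha => by simp [hv, ha]) (by simp)
    ⟨one_mem _, by
      rw [eg, elT, σ_prod s hlt]
      simp only [map_one]
      rw [show (L₀.map fun r => xg D F (γ r) (1 : F)) = (L₀.map γ).map fun r => xg D F r (1 : F) by
        rw [List.map_map]; rfl]
      refine (hperm.map _).prod_eq' (List.pairwise_of_forall_mem_list fun a ha b hb => ?_)
      obtain ⟨x, hx, rfl⟩ := List.mem_map.1 ha
      obtain ⟨y, hy, rfl⟩ := List.mem_map.1 hb
      exact commute_of_commL hV hlt hcomm x (hperm.mem_iff.1 hx) y (hperm.mem_iff.1 hy) 1 1,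
      by rw [eg]; exact elT_sq hV hlt hcomm 1⟩
  refine ⟨m * (k * g), mul_mem hm (mul_mem hk hg), R', hR', ?_⟩
  rw [← e3, eg, ← e2, ← e1]
  simp only [elT]
  group

end Cfsg.Agent.TwistInvol
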