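/-
Decision trees for the involution classes of the twist of E6 in characteristic two, one radical at a time
(found by a search; the kernel replays every step).
-/
import Cfsg.Agent.Lib.TwistInvol.Chain
import Cfsg.Agent.Lib.Chev.TwistE6

set_option autoImplicit false
set_option maxRecDepth 100000

namespace Cfsg.Agent.TwistInvol.E6

open Cfsg.Lie Cfsg.Agent.Chev

/-- the certificate -/
noncomputable abbrev E6c : Cert := Cfsg.Agent.Chev.E6.cert

/-- the symmetry -/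
abbrev gam (r : ℕ) : ℕ := Cfsg.Agent.Chev.BNSetup.graphE6.rho.getD r 0

/-- radical 1 -/
def Q1 : List ℕ := [37, 42]

/-- centre 1 -/
def Z1 : List ℕ := []

/-- positive roots 1 -/
def S1 : List ℕ := [37, 42]

/-- roots 1 -/
def rts1 : List ℕ := [29, 34, 37, 42]

/-- representatives 1 -/
def reps1 : List (List ℕ) := [[], [37, 42]]

/-- a tree -/
def tree1_0 : Tr :=
  (.split 37 (.leafC [] []) (.leafC [37] []))

/-- the trees 1 -/
def trees1 : List Tr := [tree1_0]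

theorem step1 : stepOK E6c gam ([] : List ℕ) ([] : List ℕ) S1 rts1 (Q1 ++ Z1) = true := by decide +kernel

theorem treesOK1 : treesOK E6c gam rts1 Q1 Z1 reps1 ([[]] : List (List ℕ)) trees1 = true := by decide +kernel

/-- radical 2 -/
def Q2 : List ℕ := [36, 38, 56, 57]

/-- centre 2 -/
def Z2 : List ℕ := []

/-- positive roots 2 -/
def S2 : List ℕ := [36, 37, 38, 42, 56, 57]

/-- roots 2 -/
def rts2 : List ℕ := [14, 15, 29, 33, 34, 35, 36, 37, 38, 42, 56, 57]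

/-- representatives 2 -/
def reps2 : List (List ℕ) := [[], [36, 56]]

/-- a tree -/
def tree2_0 : Tr :=
  (.split 36 (.split 38 (.leafC [] []) (.leafC [38] [(2, 4)])) (.move [(37, false)] 56 57 (.one 0 1) (.leafC [36] [])))

/-- a tree -/
def tree2_1 : Tr :=
  (.zero 38 36 (.kill 36 38 (.leafC [37] [(2, 4), (0, 5)])))

/-- the trees 2 -/
def trees2 : List Tr := [tree2_0, tree2_1]

theorem step2 : stepOK E6c gam S1 rts1 S2 rts2 (Q2 ++ Z2) = true := by decide +kernel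

theorem treesOK2 : treesOK E6c gam rts2 Q2 Z2 reps2 reps1 trees2 = true := by decide +kernel

/-- radical 3 -/
def Q3 : List ℕ := [39, 40, 41, 43, 44, 45, 58, 59, 60]

/-- centre 3 -/
def Z3 : List ℕ := []

/-- positive roots 3 -/
def S3 : List ℕ := [36, 37, 38, 39, 40, 41, 42, 43, 44, 45, 56, 57, 58, 59, 60]

/-- roots 3 -/
def rts3 : List ℕ := [11, 12, 13, 14, 15, 26, 27, 28, 29, 30, 31, 32, 33, 34, 35, 36, 37, 38, 39, 40, 41, 42, 43, 44, 45, 56, 57, 58, 59, 60]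

/-- representatives 3 -/
def reps3 : List (List ℕ) := [[], [39], [36, 56], [36, 39, 56]]

/-- a tree -/
def tree3_0 : Tr :=
  (.split 39 (.split 40 (.split 41 (.split 44 (.split 45 (.split 60 (.leafC [] []) (.leafC [60] [(2, 4), (0, 5)])) (.move [(36, false)] 59 60 .tr (.leafC [45] [(2, 4), (3, 3), (2, 4)]))) (.move [(36, false)] 44 59 (.one 0 1) (.split 60 (.leafC [44] [(2, 4)]) (.move [(15, false)] 60 44 (.one 1 1) (.move [(36, false)] 59 60 .tr (.leafC [45] [(2, 4), (3, 3), (2, 4)])))))) (.move [(37, false)] 58 59 (.one 1 0) (.move [(38, false)] 58 60 .tr (.split 44 (.leafC [41] [(2, 4), (3, 3)]) (.leafC [41, 44] [(2, 4), (3, 3)]))))) (.move [(36, false)] 40 41 (.one 1 0) (.move [(38, false)] 40 59 (.one 0 1) (.move [(37, false)] 43 44 .tr (.split 60 (.leafC [40] [(2, 4), (0, 5), (3, 3)]) (.leafC [40, 60] [(2, 4), (0, 5), (3, 3)])))))) (.move [(37, false)] 39 40 (.one 1 0) (.move [(38, false)] 39 41 (.one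 1 0) (.split 44 (.split 45 (.split 60 (.leafC [39] []) (.move [(14, false)] 60 39 (.one 1 1) (.move [(38, false)] 58 60 .tr (.leafC [41] [(2, 4), (3, 3)])))) (.move [(36, false)] 59 60 .tr (.leafC [39, 45] [(2, 4), (3, 3), (2, 4)]))) (.move [(36, false)] 44 59 (.one 0 1) (.split 60 (.move [(29, false)] 44 39 (.one 1 1) (.move [(37, false)] 43 44 .tr (.leafC [40] [(2, 4), (0, 5), (3, 3)]))) (.move [(14, false)] 60 39 (.one 1 1) (.move [(38, false)] 58 60 .tr (.leafC [41, 44] [(2, 4), (3, 3)])))))))))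

/-- a tree -/
def tree3_1 : Tr :=
  (.zero 41 40 (.zero 45 44 (.real 60 45 (.kill 40 41 (.kill 44 59 (.kill 45 60 (.split 39 (.leafC [36] []) (.leafC [36, 39] []))))))))

/-- the trees 3 -/
def trees3 : List Tr := [tree3_0, tree3_1]

theorem step3 : stepOK E6c gam S2 rts2 S3 rts3 (Q3 ++ Z3) = true := by decide +kernel

theorem treesOK3 : treesOK E6c gam rts3 Q3 Z3 reps3 reps2 trees3 = true := by decide +kernel

/-- radical 4 -/
def Q4 : List ℕ := [46, 47, 48, 49, 50, 51, 52, 53, 54, 55, 61, 62, 63, 64, 65, 66, 67, 68, 69, 70]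

/-- centre 4 -/
def Z4 : List ℕ := [71]

/-- positive roots 4 -/
def S4 : List ℕ := [36, 37, 38, 39, 40, 41, 42, 43, 44, 45, 46, 47, 48, 49, 50, 51, 52, 53, 54, 55, 56, 57, 58, 59, 60, 61, 62, 63, 64, 65, 66, 67, 68, 69, 70, 71]

/-- roots 4 -/
def rts4 : List ℕ := [0, 1, 2, 3, 4, 5, 6, 7, 8, 9, 10, 11, 12, 13, 14, 15, 16, 17, 18, 19, 20, 21, 22, 23, 24, 25, 26, 27, 28, 29, 30, 31, 32, 33, 34, 35, 36, 37, 38, 39, 40, 41, 42, 43, 44, 45, 46, 47, 48, 49, 50, 51, 52, 53, 54, 55, 56, 57, 58, 59, 60, 61, 62, 63, 64, 65, 66, 67, 68, 69, 70, 71]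

/-- representatives 4 -/
def reps4 : List (List ℕ) := [[], [39], [36, 56], [39, 71], [36, 39, 56], [36, 39, 56, 71]]

/-- a tree -/
def tree4_0 : Tr :=
  (.split 46 (.split 47 (.split 48 (.split 49 (.split 51 (.split 52 (.split 53 (.split 54 (.split 55 (.split 63 (.split 65 (.split 66 (.split 69 (.split 70 (.leafT [] [] 71 [(2, 4), (0, 5), (1, 1), (3, 3), (2, 4), (3, 3), (1, 1)]) (.leafK [70] [(2, 4), (0, 5), (1, 1), (3, 3), (2, 4), (3, 3)] 46)) (.move [(39, false)] 69 70 (.one 1 0) (.leafK [69] [(2, 4), (0, 5), (1, 1), (3, 3), (2, 4)] 47))) (.move [(37, false)] 68 69 .tr (.move [(40, false)] 68 70 .tr (.leafK [66] [(2, 4), (3, 3), (2, 4), (1, 1), (3, 3), (2, 4), (0, 5)] 50)))) (.move [(37, false)] 65 66 (.one 1 0) (.move [(44, false)] 65 70 (.one 1 0) (.split 69 (.leafK [65] [(2, 4), (0, 5), (1, 1), (3, 3)] 51) (.move [(29, false)] 69 65 (.one 1 1) (.move [(37, false)] 68 69 .tr (.leafK [66] [(2, 4), (3, 3),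 (2, 4), (1, 1), (3, 3), (2, 4), (0, 5)] 50))))))) (.move [(40, false)] 63 66 (.one 1 0) (.move [(39, false)] 63 65 (.one 1 0) (.move [(44, false)] 63 69 (.one 1 0) (.split 70 (.leafK [63] [(2, 4), (0, 5), (1, 1)] 53) (.move [(28, false)] 70 63 (.one 1 1) (.move [(40, false)] 68 70 .tr (.leafK [66] [(2, 4), (3, 3), (2, 4), (1, 1), (3, 3), (2, 4), (0, 5)] 50)))))))) (.move [(36, false)] 55 66 (.one 0 1) (.move [(38, false)] 67 69 .tr (.move [(41, false)] 67 70 .tr (.split 63 (.split 65 (.leafK [55] [(2, 4), (3, 3), (2, 4), (1, 1), (3, 3), (2, 4)] 61) (.leafK [55, 65] [(2, 4), (1, 1), (3, 3), (2, 4), (0, 5), (1, 1), (3, 3), (2, 4), (3, 3)] 61)) (.move [(39, false)] 63 65 (.one 1 0) (.leafK [55, 63] [(2, 4), (1, 1), (3, 3), (2, 4), (0, 5), (1, 1), (3, 3), (2, 4)] 61))))))) (.move [(37, false)] 64 67 (.one 0 1) (.move [(38, false)] 64 66 (.one 1 0) (.move [(36, false)] 64 65 .tr (.move [(45, false)] 64 70 .tr (.split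 63 (.split 69 (.leafK [54] [(2, 4), (3, 3), (2, 4), (1, 1), (3, 3)] 62) (.leafK [54, 69] [(2, 4), (0, 5), (1, 1), (3, 3), (2, 4), (0, 5), (1, 1), (3, 3), (2, 4), (3, 3)] 62)) (.move [(44, false)] 63 69 (.one 1 0) (.leafK [54, 63] [(2, 4), (1, 1), (3, 3), (2, 4), (0, 5), (1, 1), (3, 3)] 62)))))))) (.move [(36, false)] 53 64 (.one 0 1) (.move [(38, false)] 53 67 (.one 0 1) (.move [(60, false)] 53 70 (.one 1 0) (.split 63 (.split 65 (.split 66 (.split 69 (.leafK [53] [(2, 4), (1, 1), (3, 3)] 63) (.move [(14, false)] 69 53 (.one 1 1) (.move [(38, false)] 67 69 .tr (.leafK [55] [(2, 4), (3, 3), (2, 4), (1, 1), (3, 3), (2, 4)] 61)))) (.move [(37, false)] 68 69 .tr (.leafK [53, 66] [(2, 4), (1, 1), (3, 3), (2, 4), (0, 5), (1, 1), (3, 3), (2, 4), (0, 5), (3, 3)] 63))) (.move [(37, false)] 65 66 (.one 1 0) (.split 69 (.move [(15, false)] 65 53 (.one 1 1) (.move [(36, false)] 64 65 .tr (.leafK [54] [(2, 4), (3, 3), (2,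 4), (1, 1), (3, 3)] 62))) (.move [(14, false)] 69 53 (.one 1 1) (.move [(38, false)] 67 69 .tr (.leafK [55, 65] [(2, 4), (1, 1), (3, 3), (2, 4), (0, 5), (1, 1), (3, 3), (2, 4), (3, 3)] 61)))))) (.absurdQ 53 63)))))) (.move [(40, false)] 62 67 (.one 0 1) (.move [(41, false)] 62 66 (.one 1 0) (.move [(36, false)] 62 63 .tr (.move [(39, false)] 62 64 .quad (.move [(45, false)] 62 69 .tr (.split 53 (.split 65 (.split 70 (.leafK [52] [(2, 4), (3, 3), (2, 4), (1, 1)] 64) (.leafK [52, 70] [(2, 4), (0, 5), (1, 1), (3, 3), (2, 4), (0, 5), (1, 1), (3, 3), (2, 4)] 64)) (.move [(44, false)] 65 70 (.one 1 0) (.leafK [52, 65] [(2, 4), (1, 1), (3, 3), (2, 4), (0, 5), (1, 1)] 64))) (.move [(60, false)] 53 70 (.one 1 0) (.split 65 (.leafK [52, 53] [(2, 4), (1, 1), (3, 3), (2, 4), (1, 1)] 64) (.leafK [52, 53, 65] [(2, 4), (1, 1), (3, 3), (2, 4), (1, 1)] 64)))))))))) (.move [(36, false)] 51 52 (.one 1 0) (.move [(41, false)] 51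 67 (.one 0 1) (.move [(39, false)] 51 53 (.one 1 0) (.move [(60, false)] 51 69 (.one 1 0) (.split 54 (.split 63 (.split 65 (.split 66 (.split 70 (.leafK [51] [(2, 4), (1, 1)] 65) (.move [(13, false)] 70 51 (.one 1 1) (.move [(41, false)] 67 70 .tr (.leafK [55] [(2, 4), (3, 3), (2, 4), (1, 1), (3, 3), (2, 4)] 61)))) (.move [(40, false)] 68 70 .tr (.leafK [51, 66] [(2, 4), (1, 1), (3, 3), (2, 4), (0, 5), (1, 1), (3, 3), (2, 4), (0, 5)] 65))) (.absurdQ 51 65)) (.move [(40, false)] 63 66 (.one 1 0) (.split 65 (.split 70 (.move [(15, false)] 63 51 (.one 1 1) (.move [(36, false)] 62 63 .tr (.leafK [52] [(2, 4), (3, 3), (2, 4), (1, 1)] 64))) (.move [(13, false)] 70 51 (.one 1 1) (.move [(41, false)] 67 70 .tr (.leafK [55, 63] [(2, 4), (1, 1), (3, 3), (2, 4), (0, 5), (1, 1), (3, 3), (2, 4)] 61)))) (.absurdQ 51 65)))) (.move [(38, false)] 64 66 (.one 1 0) (.move [(45, false)] 64 70 .tr (.split 63 (.split 65 (.leafK [51,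 54] [(2, 4), (1, 1), (3, 3), (2, 4), (1, 1), (3, 3)] 65) (.absurdQ 51 65)) (.split 65 (.leafK [51, 54, 63] [(2, 4), (1, 1), (3, 3), (2, 4), (1, 1), (3, 3)] 65) (.absurdQ 51 65))))))))))) (.move [(37, false)] 49 52 (.one 0 1) (.move [(40, false)] 61 64 (.one 1 0) (.move [(45, false)] 49 66 (.one 0 1) (.move [(38, false)] 61 63 .tr (.move [(41, false)] 61 65 .tr (.move [(44, false)] 61 67 .quad (.split 51 (.split 53 (.split 69 (.split 70 (.leafK [49] [(2, 4), (3, 3), (1, 1)] 67) (.leafK [49, 70] [(2, 4), (0, 5), (1, 1), (3, 3), (2, 4), (0, 5), (1, 1), (3, 3)] 67)) (.move [(39, false)] 69 70 (.one 1 0) (.leafK [49, 69] [(2, 4), (0, 5), (1, 1), (3, 3), (2, 4), (0, 5), (1, 1)] 67))) (.move [(60, false)] 53 70 (.one 1 0) (.split 69 (.leafK [49, 53] [(2, 4), (1, 1), (3, 3), (1, 1)] 67) (.leafK [49, 53, 69] [(2, 4), (1, 1), (3, 3), (1, 1)] 67)))) (.move [(39, false)] 51 53 (.one 1 0) (.move [(60, false)] 51 69 (.one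 1 0) (.split 70 (.leafK [49, 51] [(2, 4), (3, 3), (1, 1)] 67) (.leafK [49, 51, 70] [(2, 4), (3, 3), (1, 1)] 67)))))))))))) (.move [(36, false)] 48 49 (.one 1 0) (.move [(38, false)] 50 52 (.one 1 0) (.move [(41, false)] 48 64 (.one 0 1) (.move [(45, false)] 50 67 (.one 0 1) (.move [(37, false)] 50 51 .tr (.move [(40, false)] 50 53 .tr (.move [(60, false)] 48 66 .quad (.split 63 (.split 65 (.split 69 (.split 70 (.leafK [48] [(2, 4), (0, 5), (3, 3), (1, 1)] 68) (.leafK [48, 70] [(2, 4), (0, 5), (1, 1), (3, 3), (2, 4), (1, 1), (3, 3)] 68)) (.move [(39, false)] 69 70 (.one 1 0) (.leafK [48, 69] [(2, 4), (0, 5), (1, 1), (3, 3), (2, 4), (1, 1)] 68))) (.move [(44, false)] 65 70 (.one 1 0) (.split 69 (.leafK [48, 65] [(2, 4), (0, 5), (1, 1), (3, 3), (1, 1)] 68) (.leafK [48, 65, 69] [(2, 4), (0, 5), (1, 1), (3, 3), (1, 1)] 68)))) (.move [(39, false)] 63 65 (.one 1 0) (.move [(44, false)] 63 69 (.one 1 0) (.split 70 (.leafK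 [48, 63] [(2, 4), (0, 5), (3, 3), (1, 1)] 68) (.leafK [48, 63, 70] [(2, 4), (0, 5), (3, 3), (1, 1)] 68))))))))))))) (.move [(37, false)] 47 48 (.one 1 0) (.move [(38, false)] 47 49 (.one 1 0) (.move [(45, false)] 47 64 (.one 0 1) (.move [(44, false)] 47 53 (.one 1 0) (.move [(60, false)] 47 65 (.one 1 0) (.split 51 (.split 52 (.split 55 (.split 63 (.split 66 (.split 69 (.split 70 (.leafK [47] [(1, 1)] 69) (.move [(12, false)] 70 47 (.one 1 1) (.move [(45, false)] 64 70 .tr (.leafK [54] [(2, 4), (3, 3), (2, 4), (1, 1), (3, 3)] 62)))) (.absurdQ 47 69)) (.move [(40, false)] 68 70 .tr (.split 69 (.leafK [47, 66] [(2, 4), (1, 1), (3, 3), (2, 4), (1, 1), (3, 3), (2, 4), (0, 5)] 69) (.absurdQ 47 69)))) (.move [(40, false)] 63 66 (.one 1 0) (.split 69 (.split 70 (.move [(14, false)] 63 47 (.one 1 1) (.move [(38, false)] 61 63 .tr (.leafK [49] [(2, 4), (3, 3), (1, 1)] 67))) (.move [(12, false)] 70 47 (.one 1 1) (.move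 [(45, false)] 64 70 .tr (.leafK [54, 63] [(2, 4), (1, 1), (3, 3), (2, 4), (0, 5), (1, 1), (3, 3)] 62)))) (.absurdQ 47 69)))) (.move [(36, false)] 55 66 (.one 0 1) (.move [(41, false)] 67 70 .tr (.split 63 (.split 69 (.leafK [47, 55] [(2, 4), (1, 1), (3, 3), (2, 4), (1, 1), (3, 3), (2, 4)] 69) (.absurdQ 47 69)) (.split 69 (.leafK [47, 55, 63] [(2, 4), (1, 1), (3, 3), (2, 4), (1, 1), (3, 3), (2, 4)] 69) (.absurdQ 47 69)))))) (.move [(40, false)] 62 67 (.one 0 1) (.move [(41, false)] 62 66 (.one 1 0) (.move [(36, false)] 62 63 .tr (.split 69 (.split 70 (.leafK [47, 52] [(2, 4), (3, 3), (2, 4), (1, 1)] 69) (.leafK [47, 52, 70] [(2, 4), (3, 3), (2, 4), (1, 1)] 69)) (.absurdQ 47 69)))))) (.move [(36, false)] 51 52 (.one 1 0) (.move [(41, false)] 51 67 (.one 0 1) (.split 63 (.split 66 (.split 69 (.split 70 (.move [(29, false)] 51 47 (.one 1 1) (.move [(37, false)] 50 51 .tr (.leafK [48] [(2, 4), (0, 5), (3, 3), (1,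 1)] 68))) (.move [(12, false)] 70 47 (.one 1 1) (.move [(45, false)] 64 70 .tr (.leafK [51, 54] [(2, 4), (1, 1), (3, 3), (2, 4), (1, 1), (3, 3)] 65)))) (.absurdQ 47 69)) (.move [(40, false)] 68 70 .tr (.split 69 (.leafK [47, 51, 66] [(2, 4), (1, 1), (3, 3), (2, 4), (1, 1), (3, 3), (2, 4), (0, 5)] 69) (.absurdQ 47 69)))) (.move [(40, false)] 63 66 (.one 1 0) (.split 69 (.split 70 (.move [(14, false)] 63 47 (.one 1 1) (.move [(38, false)] 61 63 .tr (.leafK [49, 51] [(2, 4), (3, 3), (1, 1)] 67))) (.move [(12, false)] 70 47 (.one 1 1) (.move [(45, false)] 64 70 .tr (.leafK [51, 54, 63] [(2, 4), (1, 1), (3, 3), (2, 4), (1, 1), (3, 3)] 65)))) (.absurdQ 47 69))))))))))))) (.move [(40, false)] 46 48 (.one 1 0) (.move [(41, false)] 46 49 (.one 1 0) (.move [(45, false)] 46 52 (.one 1 0) (.move [(39, false)] 46 47 (.one 1 0) (.move [(44, false)] 46 51 (.one 1 0) (.move [(60, false)] 46 63 (.one 1 0) (.split 53 (.split 54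 (.split 55 (.split 65 (.split 66 (.split 69 (.split 70 (.leafK [46] [(1, 1), (3, 3)] 70) (.absurdQ 46 70)) (.split 70 (.move [(12, false)] 69 46 (.one 1 1) (.move [(45, false)] 62 69 .tr (.leafK [52] [(2, 4), (3, 3), (2, 4), (1, 1)] 64))) (.absurdQ 46 70))) (.move [(37, false)] 68 69 .tr (.split 70 (.leafK [46, 66] [(2, 4), (3, 3), (2, 4), (1, 1), (3, 3), (2, 4), (0, 5)] 70) (.absurdQ 46 70)))) (.move [(37, false)] 65 66 (.one 1 0) (.split 69 (.split 70 (.move [(13, false)] 65 46 (.one 1 1) (.move [(41, false)] 61 65 .tr (.leafK [49] [(2, 4), (3, 3), (1, 1)] 67))) (.absurdQ 46 70)) (.split 70 (.move [(12, false)] 69 46 (.one 1 1) (.move [(45, false)] 62 69 .tr (.leafK [52, 65] [(2, 4), (1, 1), (3, 3), (2, 4), (0, 5), (1, 1)] 64))) (.absurdQ 46 70))))) (.move [(36, false)] 55 66 (.one 0 1) (.move [(38, false)] 67 69 .tr (.split 65 (.split 70 (.leafK [46, 55] [(2, 4), (3, 3), (2, 4), (1, 1), (3, 3), (2, 4)] 70)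 (.absurdQ 46 70)) (.split 70 (.leafK [46, 55, 65] [(2, 4), (3, 3), (2, 4), (1, 1), (3, 3), (2, 4)] 70) (.absurdQ 46 70)))))) (.move [(37, false)] 64 67 (.one 0 1) (.move [(38, false)] 64 66 (.one 1 0) (.move [(36, false)] 64 65 .tr (.split 69 (.split 70 (.leafK [46, 54] [(2, 4), (3, 3), (2, 4), (1, 1), (3, 3)] 70) (.absurdQ 46 70)) (.split 70 (.leafK [46, 54, 69] [(2, 4), (3, 3), (2, 4), (1, 1), (3, 3)] 70) (.absurdQ 46 70))))))) (.move [(36, false)] 53 64 (.one 0 1) (.move [(38, false)] 53 67 (.one 0 1) (.split 65 (.split 66 (.split 69 (.split 70 (.move [(28, false)] 53 46 (.one 1 1) (.move [(40, false)] 50 53 .tr (.leafK [48] [(2, 4), (0, 5), (3, 3), (1, 1)] 68))) (.absurdQ 46 70)) (.split 70 (.move [(12, false)] 69 46 (.one 1 1) (.move [(45, false)] 62 69 .tr (.leafK [52, 53] [(2, 4), (1, 1), (3, 3), (2, 4), (1, 1)] 64))) (.absurdQ 46 70))) (.move [(37, false)] 68 69 .tr (.split 70 (.leafK [46, 53, 66] [(2,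 4), (3, 3), (2, 4), (1, 1), (3, 3), (2, 4), (0, 5)] 70) (.absurdQ 46 70)))) (.move [(37, false)] 65 66 (.one 1 0) (.split 69 (.split 70 (.move [(13, false)] 65 46 (.one 1 1) (.move [(41, false)] 61 65 .tr (.leafK [49, 53] [(2, 4), (1, 1), (3, 3), (1, 1)] 67))) (.absurdQ 46 70)) (.split 70 (.move [(12, false)] 69 46 (.one 1 1) (.move [(45, false)] 62 69 .tr (.leafK [52, 53, 65] [(2, 4), (1, 1), (3, 3), (2, 4), (1, 1)] 64))) (.absurdQ 46 70)))))))))))))))

/-- a tree -/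
def tree4_1 : Tr :=
  (.zero 47 46 (.zero 53 51 (.zero 54 52 (.zero 65 63 (.zero 70 69 (.kill 52 54 (.kill 46 47 (.kill 51 53 (.kill 63 65 (.kill 69 70 (.split 48 (.split 49 (.split 55 (.split 66 (.leafT [39] [] 71 []) (.leafK [39, 66] [(2, 4), (1, 1), (3, 3), (2, 4), (1, 1), (3, 3), (2, 4), (0, 5), (1, 1)] 50)) (.move [(36, false)] 55 66 (.one 0 1) (.leafK [39, 55] [(2, 4), (1, 1), (3, 3), (2, 4), (1, 1), (3, 3), (2, 4), (1, 1)] 61))) (.move [(44, false)] 61 67 .quad (.move [(45, false)] 49 66 (.one 0 1) (.leafK [39, 49] [(1, 1), (3, 3), (2, 4), (3, 3), (1, 1)] 67)))) (.move [(36, false)] 48 49 (.one 1 0) (.move [(45, false)] 50 67 (.one 0 1) (.move [(60, false)] 48 66 .quad (.leafK [39, 48] [(1, 1), (3, 3), (2, 4), (0, 5), (3, 3), (1, 1)] 68)))))))))))))))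

/-- a tree -/
def tree4_2 : Tr :=
  (.zero 49 48 (.zero 52 51 (.zero 54 53 (.real 63 52 (.real 65 54 (.zero 66 55 (.kill 48 49 (.kill 51 52 (.kill 53 64 (.kill 55 66 (.kill 52 63 (.kill 54 65 (.split 46 (.split 47 (.split 69 (.split 70 (.leafT [36] [] 71 [(2, 4), (0, 5), (1, 1), (3, 3), (2, 4), (0, 5), (3, 3), (2, 4), (1, 1)]) (.leafK [36, 70] [(2, 4), (0, 5), (1, 1), (3, 3), (2, 4), (0, 5), (3, 3), (2, 4)] 46)) (.move [(39, false)] 69 70 (.one 1 0) (.leafK [36, 69] [(2, 4), (0, 5), (1, 1), (3, 3), (2, 4), (0, 5), (3, 3), (2, 4), (3, 3)] 47))) (.split 69 (.split 70 (.leafK [36, 47] [(1, 1)] 69) (.move [(12, false), (27, false)] 70 47 (.one 2 0) (.real 65 54 (.kill 53 64 (.kill 54 65 (.leafK [36, 70] [(2, 4), (0, 5), (1, 1), (3, 3), (2, 4), (0, 5), (3, 3), (2, 4)] 46)))))) (.absurdQ 47 69))) (.move [(39, false)] 46 47 (.one 1 0) (.split 69 (.split 70 (.leafK [36, 46] [(1, 1), (3, 3)] 70) (.absurdQ 46 70)) (.split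 70 (.move [(12, false), (27, false)] 69 46 (.one 2 0) (.real 63 52 (.kill 51 52 (.kill 52 63 (.leafK [36, 69] [(2, 4), (0, 5), (1, 1), (3, 3), (2, 4), (0, 5), (3, 3), (2, 4), (3, 3)] 47))))) (.absurdQ 46 70)))))))))))))))))

/-- a tree -/
def tree4_3 : Tr :=
  (.zero 47 46 (.zero 49 48 (.zero 52 51 (.real 63 52 (.zero 66 55 (.zero 70 69 (.kill 48 49 (.kill 51 52 (.zero 54 53 (.kill 52 54 (.zero 65 63 (.kill 55 66 (.kill 46 47 (.kill 54 65 (.kill 69 70 (.leafT [36, 39] [] 71 []))))))))))))))))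

/-- the trees 4 -/
def trees4 : List Tr := [tree4_0, tree4_1, tree4_2, tree4_3]

theorem step4 : stepOK E6c gam S3 rts3 S4 rts4 (Q4 ++ Z4) = true := by decide +kernel

theorem treesOK4 : treesOK E6c gam rts4 Q4 Z4 reps4 reps3 trees4 = true := by decide +kernel

/-- the final representatives -/
def repsF : List (List ℕ) := [[39], [36, 56], [36, 39, 56]]

/-- a tree -/
def treeR0 : Tr :=
  (.move [(28, false)] 53 46 (.one 1 1) (.move [(40, false)] 50 53 .tr (.leafK [48] [(2, 4), (0, 5), (3, 3), (1, 1)] 68)))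

theorem reduceOK0 : reduceOK E6c gam ⟨rts4, Q4, Z4, [], repsF⟩ treeR0 [46, 53] [39, 71] [39, 71] [(0, 5), (2, 4), (3, 3), (1, 1)] = true := by decide +kernel

/-- a tree -/
def treeR1 : Tr :=
  (.move [(12, false), (27, false)] 69 46 (.one 2 0) (.real 63 52 (.kill 51 52 (.kill 52 63 (.leafK [36, 69] [(2, 4), (0, 5), (1, 1), (3, 3), (2, 4), (0, 5), (3, 3), (2, 4), (3, 3)] 47)))))

theorem reduceOK1 : reduceOK E6c gam ⟨rts4, Q4, Z4, [36, 56], repsF⟩ treeR1 [46, 69] [36, 39, 56, 71] [36, 39, 71] [(3, 3), (1, 1)] = true := by decide +kernel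

end Cfsg.Agent.TwistInvol.E6
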